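import Groth.Agent.Ega43.LocusAff
import Groth.Agent.Ega43.ResSysSch
import Groth.Agent.Ega4fib.H121.ProConsScheme

/-!
# Ind-constructibility of fibrewise loci of properties descending along cofiltered limits

* `locus_bcMap_openImmersion`
* `isIndConstructible_locus`: if `P` is stable under base change and `DescRow P` then the set of `s` such
  that `f_s` has `P` is ind-constructible.
-/

set_option autoImplicit false
universe u
open CategoryTheory AlgebraicGeometry CategoryTheory.Limits Topology

namespace K118.IndLocus

open Groth.Agent.Ega43.Locus Groth.Agent.Ega43.LocusAff Groth.Agent.Ega43.ResSysSch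
open Groth.Agent.Ega4fib.H121.ProConsBasic Groth.Agent.Ega4fib.H121.ProConsScheme

variable {X Y S T : Scheme.{u}}

/-- The locus of a base change along an open immersion. -/
theorem locus_bcMap_openImmersion {P : MorphismProperty Scheme.{u}} [P.RespectsIso]
    (f : X ⟶ Y) (g : Y ⟶ S) (t : T ⟶ S) [IsOpenImmersion t] :
    locus P (bcMap f g t) (pullback.snd g t) = t ⁻¹' (locus P f g) := by
  ext x
  let f' := bcMap f g t
  let g' := pullback.snd g t
  have h0 : IsIso (t.residueFieldMap x) := inferInstance
  let e : Spec (T.residueField x) ⟶ Spec (S.residueField (t x)) := Spec.map (t.residueFieldMap x)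
  have he : IsIso e := inferInstance
  have hY := IsPullback.of_hasPullback g t
  have hX := isPullback_bcMap f g t
  have h1 : IsPullback (pullback.fst g' (T.fromSpecResidueField x) ≫ pullback.fst g t)
      (pullback.snd g' (T.fromSpecResidueField x) ≫ e) g
      (S.fromSpecResidueField (t x)) := by
    have h2 : IsPullback (pullback.fst g' (T.fromSpecResidueField x) ≫ pullback.fst g t)
      (pullback.snd g' (T.fromSpecResidueField x)) g (e ≫ S.fromSpecResidueField (t x)) := by
      rw [Scheme.Hom.SpecMap_residueFieldMap_fromSpecResidueField]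
      exact (IsPullback.of_hasPullback g' (T.fromSpecResidueField x)).paste_horiz hY
    refine IsPullback.of_iso h2 (Iso.refl _) (Iso.refl _) (asIso e) (Iso.refl _) ?_ ?_ ?_ ?_
    · simp
    · simp
    · simp
    · simp
  have h2 : IsPullback (pullback.fst (f' ≫ g') (T.fromSpecResidueField x) ≫ pullback.fst (f ≫ g) t)
      (bcMap f' g' (T.fromSpecResidueField x)) f
      (pullback.fst g' (T.fromSpecResidueField x) ≫ pullback.fst g t) :=
    (isPullback_bcMap f' g' (T.fromSpecResidueField x)).paste_horiz hX
  exact (mem_locus_iff_of_isPullback h1 h2).symm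

theorem isIndConstructible_locus_Spec {P : MorphismProperty Scheme.{u}}
    [P.IsStableUnderBaseChange] (hP : DescRow P) {R : Type u} [CommRing R]
    (f : X ⟶ Y) (g : Y ⟶ Spec (.of R)) (hg : FP g) (hfg : FP (f ≫ g)) :
    ProCons.IsIndConstructible (X := PrimeSpectrum R) (locus P f g) := by
  have := hg.lfp; have := hg.qc; have := hg.qs
  have := hfg.lfp; have := hfg.qc; have := hfg.qs
  refine (isIndConstructible_iff_forall (X := PrimeSpectrum R)).mpr ?_
  intro p hp
  exact exists_subset_locus f g hP p hp

theorem isIndConstructible_locus {P : MorphismProperty Scheme.{u}} [P.IsStableUnderBaseChange]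
    (hP : DescRow P) (f : X ⟶ Y) (g : Y ⟶ S) (hg : FP g) (hfg : FP (f ≫ g)) :
    ProCons.IsIndConstructible (locus P f g) := by
  refine isIndConstructible_of_cover fun x => ?_
  obtain ⟨_, ⟨U, hU, rfl⟩, hxU, -⟩ :=
    S.isBasis_affineOpens.exists_subset_of_mem_open (Set.mem_univ x) isOpen_univ
  replace hU : IsAffineOpen U := hU
  have : IsOpenImmersion hU.fromSpec := inferInstance
  refine ⟨Spec Γ(S, U), inferInstance, hU.fromSpec, hU.fromSpec.isOpenEmbedding, ?_, ?_⟩
  · rw [hU.range_fromSpec]
    exact hxU
  · have h1 : FP (pullback.snd g hU.fromSpec) := hg.snd _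
    have h2 : FP (bcMap f g hU.fromSpec ≫ pullback.snd g hU.fromSpec) := by
      rw [pullback.lift_snd]
      exact hfg.snd _
    have h3 := isIndConstructible_locus_Spec hP (R := Γ(S, U)) _ _ h1 h2
    have h4 := locus_bcMap_openImmersion (P := P) f g hU.fromSpec
    rw [← h4]
    exact h3

end K118.IndLocus
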