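import Mathlib.AlgebraicGeometry.Fiber
import Mathlib.AlgebraicGeometry.Morphisms.FinitePresentation

/-!
# From loci in the source to loci in the base

* `isLocallyConstructible_compl'`
* `isLocallyConstructible_setOf_forall_fiber`: if the set of `x` such that `P (f x) (f.asFiber x)` is
  locally constructible in the source of `f` of finite presentation, then the set of `s` such that
  `P s z` for all points `z` of the fibre over `s` is locally constructible.
-/

set_option autoImplicit false
universe u
open CategoryTheory AlgebraicGeometry Topology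

namespace K118.FibreAll

theorem isLocallyConstructible_compl' {T : Type*} [TopologicalSpace T] {s : Set T}
    (hs : IsLocallyConstructible s) : IsLocallyConstructible sᶜ := by
  intro x
  obtain ⟨U, hU, hU', h⟩ := hs x
  refine ⟨U, hU, hU', ?_⟩
  rw [Set.preimage_compl]
  exact h.compl

theorem exists_asFiber {X S : Scheme.{u}} (f : X ⟶ S) (s : S) (z : f.fiber s) :
    ∃ x : X, f.fiberι s z = x ∧ f x = s ∧ ∀ (P : ∀ (t : S), f.fiber t → Prop),
      P s z ↔ P (f x) (f.asFiber x) := by
  obtain ⟨x, hx⟩ : ∃ x, f.fiberι s z = x := ⟨_, rfl⟩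
  have hs : f x = s := by
    have : f.fiberι s z ∈ f ⁻¹' {s} := by
      rw [← f.range_fiberι s]
      exact ⟨z, rfl⟩
    rw [hx] at this
    exact this
  subst hs
  have hz : z = f.asFiber x := by
    apply (f.fiberι (f x)).isEmbedding.injective
    rw [hx, f.fiberι_asFiber]
  exact ⟨x, hx, rfl, fun P => by rw [hz]⟩

theorem isLocallyConstructible_setOf_forall_fiber {X S : Scheme.{u}} (f : X ⟶ S)
    [LocallyOfFinitePresentation f] [QuasiCompact f] [QuasiSeparated f]
    (P : ∀ (t : S), f.fiber t → Prop)
    (h : IsLocallyConstructible {x : X | P (f x) (f.asFiber x)}) :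
    IsLocallyConstructible {s : S | ∀ z : f.fiber s, P s z} := by
  have h1 := isLocallyConstructible_compl' (f.isLocallyConstructible_image (isLocallyConstructible_compl' h))
  convert h1 using 1
  ext s
  constructor
  · rintro hs ⟨x, hx, rfl⟩
    exact hx (hs (f.asFiber x))
  · intro hs z
    obtain ⟨x, hx, hxs, hP⟩ := exists_asFiber f s z
    rw [hP P]
    by_contra hc
    exact hs ⟨x, hc, hxs⟩

end K118.FibreAll
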