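import Groth.Agent.Cons9.K118.FibFLF
import Groth.Agent.Cons9.K118.FibreAll
import Groth.Agent.FlatMod.K582.RankStrat
import Groth.Agent.Fitt.K360.Fiber
import Mathlib.RingTheory.Spectrum.Prime.ConstructibleSet

/-!
# The locus where the restriction of a module to the fibre is finite locally free of given rank
-/

set_option autoImplicit false
universe u
open CategoryTheory AlgebraicGeometry CategoryTheory.Limits Topology TensorProduct

namespace K118.FibRankLocus

open K582.RankStrat

theorem isConstructible_fibRank_le (A : Type u) [CommRing A] (M : Type u) [AddCommGroup M]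
    [Module A M] [Module.FinitePresentation A M] (n : ℕ) :
    IsConstructible {p : PrimeSpectrum A | Groth.Agent.Grpsch.FlatIdeal.fibRank A M p ≤ n} := by
  obtain ⟨s, hs⟩ := K360.FittBasic.ideal_fg (R := A) (M := M) n
  have h : {p : PrimeSpectrum A | Groth.Agent.Grpsch.FlatIdeal.fibRank A M p ≤ n} =
      (PrimeSpectrum.zeroLocus (s : Set A))ᶜ := by
    ext p
    rw [Set.mem_ofPred_eq, Groth.Agent.Grpsch.FlatIdeal.fibRank,
      ← K360.FittFiber.not_le_prime_iff_finrank, ← hs, Set.mem_compl_iff,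
      PrimeSpectrum.mem_zeroLocus, Ideal.span_le]
  rw [h]
  exact (PrimeSpectrum.isRetrocompact_zeroLocus_compl s.finite_toSet).isConstructible
    (PrimeSpectrum.isClosed_zeroLocus _).isOpen_compl

theorem isLocallyConstructible_fib_le {X : Scheme.{u}} (F : X.Modules) (hF : CohB1.IsFP F) (n : ℕ) :
    IsLocallyConstructible {x : X | fib F x ≤ n} := by
  have hqc : Coh.IsQCoh F := Groth.Agent.PerfC.FPSections.isQCoh_of_isFP hF
  refine .of_isOpenCover (U := fun U : X.affineOpens ↦ U.1) (iSup_affineOpens_eq_top X) fun U ↦ ?_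
  have hU : IsAffineOpen U.1 := U.2
  have : Module.FinitePresentation Γ(X, U.1) Γ(F, U.1) :=
    Groth.Agent.Desc.FPSections.finitePresentation_sections hU hqc hF
  have h1 := isConstructible_fibRank_le Γ(X, U.1) Γ(F, U.1) n
  have h2 := (h1.isLocallyConstructible.preimage_of_isOpenEmbedding
    hU.isoSpec.hom.isOpenEmbedding)
  convert! h2 using 1
  ext x
  have h3 : hU.fromSpec (hU.isoSpec.hom x) = x.1 := by
    have : (hU.isoSpec.hom ≫ hU.fromSpec) x = x.1 := by rw [hU.isoSpec_hom_fromSpec]; rfl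
    exact this
  have h4 := fib_fromSpec F hqc hU (hU.isoSpec.hom x)
  have h5 : fib F (hU.fromSpec (hU.isoSpec.hom x)) = fib F x.1 := congrArg (fib F) h3
  exact (congrArg (fun y => y ≤ n) (h5.symm.trans h4)).to_iff

theorem isLocallyConstructible_fib_eq {X : Scheme.{u}} (F : X.Modules) (hF : CohB1.IsFP F) (n : ℕ) :
    IsLocallyConstructible {x : X | fib F x = n} := by
  cases n with
  | zero =>
    have := isLocallyConstructible_fib_le F hF 0
    convert this using 3
    exact Nat.le_zero.symm
  | succ n =>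
    have := (isLocallyConstructible_fib_le F hF (n + 1)).inter
      (K118.FibreAll.isLocallyConstructible_compl' (isLocallyConstructible_fib_le F hF n))
    convert this using 1
    ext x
    change fib F x = n + 1 ↔ fib F x ≤ n + 1 ∧ ¬ fib F x ≤ n
    omega

theorem isFinLocFreeOfRank_iff {X : Scheme.{u}} (M : X.Modules) (hM : Coh.IsQCoh M) (n : ℕ) :
    FlatMod.IsFinLocFreeOfRank n M ↔ FlatMod.IsFinLocFree M ∧ ∀ x, fib M x = n := by
  constructor
  · intro h
    refine ⟨fun x => ?_, fib_eq_of_isFinLocFreeOfRank M hM h⟩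
    obtain ⟨U, hx, e⟩ := h x
    exact ⟨U, n, hx, e⟩
  · rintro ⟨h1, h2⟩ x
    obtain ⟨U, m, hx, ⟨e⟩⟩ := h1 x
    have hN : FlatMod.IsFinLocFreeOfRank m ((Scheme.Modules.pullback U.ι).obj M) :=
      IsFinLocFreeOfRank.of_iso (((Scheme.Modules.restrictFunctorIsoPullback U.ι).symm.app M ≪≫ e).symm)
        fun y => ⟨⊤, trivial, ⟨Groth.Agent.Dcoh.ResFree.restrictFreeMod _ _⟩⟩
    have h3 := fib_eq_of_isFinLocFreeOfRank _
      (Groth.Agent.FormalA.PullbackQC.isQCoh_pullback _ M hM) hN ⟨x, hx⟩
    have h4 : m = n := h3.symm.trans ((fib_pullback M U.ι hM ⟨x, hx⟩).trans (h2 _))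
    subst h4
    exact ⟨U, hx, ⟨e⟩⟩

theorem isLocallyConstructible_rank {X S : Scheme.{u}} (f : X ⟶ S)
    [LocallyOfFinitePresentation f] [QuasiCompact f] [QuasiSeparated f]
    (F : X.Modules) (hF : CohB1.IsFP F) (n : ℕ) :
    IsLocallyConstructible
      {s : S | FlatMod.IsFinLocFreeOfRank n ((Scheme.Modules.pullback (f.fiberι s)).obj F)} := by
  have hqc : Coh.IsQCoh F := Groth.Agent.PerfC.FPSections.isQCoh_of_isFP hF
  have h1 := K118.FibFLF.isLocallyConstructible_flf f F hF
  have h2 := K118.FibreAll.isLocallyConstructible_setOf_forall_fiber f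
    (fun t z => fib F (f.fiberι t z) = n) (by
      convert isLocallyConstructible_fib_eq F hF n using 4
      rw [f.fiberι_asFiber])
  convert h1.inter h2 using 1
  ext s
  change FlatMod.IsFinLocFreeOfRank n ((Scheme.Modules.pullback (f.fiberι s)).obj F) ↔
    FlatMod.IsFinLocFree _ ∧ _
  rw [isFinLocFreeOfRank_iff _ (Groth.Agent.FormalA.PullbackQC.isQCoh_pullback _ F hqc)]
  refine and_congr_right fun _ => forall_congr' fun z => ?_
  rw [fib_pullback _ _ hqc]

end K118.FibRankLocus
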