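import Groth.Agent.Ega3B.LimInvK1
import Groth.Agent.Flat2H.AmpleLimit
import Groth.Agent.Flat2H.FamOpen
import Groth.Agent.PerfB.PushFLF
import Groth.Agent.Ega2.RelAmp
import Groth.Agent.Dcoh.ResFree
import Groth.Agent.S4438
import Mathlib.RingTheory.Jacobson.Ring
import Mathlib.AlgebraicGeometry.Noetherian

/-!
# Ample invertible modules and extensions of the base field

`X` of finite type over a field `k`. If for some field extension `K` of `k` the scheme `X_K` has an
ample invertible module then so has `X`.
-/

set_option autoImplicit false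
universe u
open CategoryTheory AlgebraicGeometry CategoryTheory.Limits TopologicalSpace Opposite

namespace K118.AmpleFieldDesc

open Groth.Agent.Ega3B.LimInv

set_option backward.isDefEq.respectTransparency false in
set_option backward.defeqAttrib.useBackward true in
/-- An ample invertible module on `X_K` exists on `X_B` for a finitely generated subalgebra of `K`. -/
theorem exists_fg {k : Type u} [CommRing k] {X : Scheme.{u}}
    (p : X ⟶ Spec (CommRingCat.of k)) [QuasiSeparated p] [QuasiCompact p]
    (K : Type u) [CommRing K] [Algebra k K]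
    {L : (pullback p (Spec.map (CommRingCat.ofHom (algebraMap k K)))).Modules}
    (hL : CohB1.IsAmple L) :
    ∃ (B : Subalgebra k K), B.FG ∧
      ∃ M : (pullback p (Spec.map (CommRingCat.ofHom (algebraMap k B)))).Modules,
        CohB1.IsAmple M := by
  let D := bcD (fgD k K) (fgS k K) p
  have h : IsPullback (pullback.fst p (Spec.map (CommRingCat.ofHom (algebraMap k K))))
    (pullback.snd p (Spec.map (CommRingCat.ofHom (algebraMap k K)))) p
    (Spec.map (CommRingCat.ofHom (algebraMap k K))) := IsPullback.of_hasPullback _ _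
  have ht : ∀ j, (fgC k K).π.app j ≫ (fgS k K).app j =
      Spec.map (CommRingCat.ofHom (algebraMap k K)) := fun j => by
    change Spec.map _ ≫ Spec.map _ = _
    rw [← Spec.map_comp]
    rfl
  let c : Cone D := bcC (fgC k K) ht h
  have hc : IsLimit c := isLimitBcC (fgC k K) ht h (isLimitFgC k K)
  have h1 : ∀ {j k'} (a : j ⟶ k'), IsAffineHom (D.map a) := fun a => isAffineHom_bcD_map a
  have h2 : ∀ j, CompactSpace (D.obj j) := fun j => compactSpace_bcD_obj j
  have h3 : ∀ j, QuasiSeparatedSpace (D.obj j) := fun j => quasiSeparatedSpace_bcD_obj j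
  obtain ⟨j, M, hM, ⟨e⟩⟩ := exists_invertible D c hc hL.1
  obtain ⟨j', a, hj⟩ := Groth.Agent.Flat2H.AmpleLimit.exists_isAmple_pullback hc hM
    (Groth.Agent.Flat2H.FamDict.isAmple_of_iso e.symm hL)
  exact ⟨j'.unop.1, j'.unop.2, _, hj⟩

/-- Ample invertible modules and extensions of the base field. -/
theorem exists_isAmple {k : Type u} [Field k] {X : Scheme.{u}} (p : X ⟶ Spec (CommRingCat.of k))
    [LocallyOfFiniteType p] [QuasiCompact p] (K : Type u) [Field K] [Algebra k K]
    {L : (pullback p (Spec.map (CommRingCat.ofHom (algebraMap k K)))).Modules}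
    (hL : CohB1.IsAmple L) : ∃ M : X.Modules, CohB1.IsAmple M := by
  have : IsLocallyNoetherian X := LocallyOfFiniteType.isLocallyNoetherian p
  obtain ⟨B, hB, M, hM⟩ := exists_fg p K hL
  have : Algebra.FiniteType k B := (Subalgebra.fg_iff_finiteType _).1 hB
  obtain ⟨m, hm⟩ := Ideal.exists_maximal B
  let : Field (B ⧸ m) := Ideal.Quotient.field m
  have : Algebra.FiniteType k (B ⧸ m) :=
    Algebra.FiniteType.of_surjective (Ideal.Quotient.mkₐ k m) (Ideal.Quotient.mkₐ_surjective k m)
  have : Module.Finite k (B ⧸ m) := finite_of_finite_type_of_isJacobsonRing k _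
  have hs : Spec.map (CommRingCat.ofHom (algebraMap B (B ⧸ m))) ≫
      Spec.map (CommRingCat.ofHom (algebraMap k B)) =
      Spec.map (CommRingCat.ofHom (algebraMap k (B ⧸ m))) := by
    rw [← Spec.map_comp, ← CommRingCat.ofHom_comp, ← IsScalarTower.algebraMap_eq]
  let q := Spec.map (CommRingCat.ofHom (algebraMap k (B ⧸ m)))
  let t : pullback p q ⟶ pullback p (Spec.map (CommRingCat.ofHom (algebraMap k B))) :=
    pullback.lift (pullback.fst _ _) (pullback.snd p q ≫
      Spec.map (CommRingCat.ofHom (algebraMap B (B ⧸ m)))) (by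
        rw [Category.assoc, hs, pullback.condition])
  have ht : IsPullback t (pullback.snd p q)
      (pullback.snd p (Spec.map (CommRingCat.ofHom (algebraMap k B))))
      (Spec.map (CommRingCat.ofHom (algebraMap B (B ⧸ m)))) := by
    refine IsPullback.of_right ?_ (pullback.lift_snd _ _ _) (IsPullback.of_hasPullback p _)
    rw [hs, pullback.lift_fst]
    exact IsPullback.of_hasPullback p q
  have : IsAffineHom t := MorphismProperty.of_isPullback ht.flip inferInstance
  have hM' := Groth.Agent.Flat2H.FamOpen.isAmple_pullback_of_isAffineHom t hM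
  have : IsFinite q := (IsFinite.SpecMap_iff _).mpr (RingHom.finite_algebraMap.mpr inferInstance)
  have hfl : Module.Flat k (B ⧸ m) := Module.Flat.of_free
  have : Flat q := Flat.SpecMap_iff.mpr (RingHom.flat_algebraMap_iff.mpr hfl)
  have : Surjective q := inferInstance
  let g := pullback.fst p q
  have : LocallyOfFinitePresentation g :=
    LocallyOfFinitePresentation.iff_locallyOfFiniteType.2 inferInstance
  have hfree : FlatMod.IsFinLocFree ((Coh.push g).obj (Coh.structureModule _)) :=
    Groth.Agent.PerfB.PushFLF.isFinLocFree_pushforward g Groth.Agent.Dcoh.ResFree.isFinLocFree_unit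
  obtain ⟨L, -, hL2⟩ := (Groth.Agent.S4438.result p g hfree).mpr
    ⟨_, hM'.1, Groth.Agent.Ega2.RelAmp.isRelAmple_iff_isAmple.mpr hM'⟩
  exact ⟨L, Groth.Agent.Ega2.RelAmp.isRelAmple_iff_isAmple.mp hL2⟩

end K118.AmpleFieldDesc
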