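import Groth.Prelude.Def_Coh
import Groth.Prelude.Def_CohB1
import Groth.Agent.Ega43.LocusAff
import Groth.Agent.Ega43.LocusFlat
import Groth.Agent.Ega1.TildePullback
import Groth.Agent.Algz.K574.PiFP
import Groth.Agent.FormalA.PullbackQC
import Groth.Agent.PerfC.FPSections
import Groth.Agent.PerfC.PullRestrict
import Mathlib.AlgebraicGeometry.Fiber
import Mathlib.AlgebraicGeometry.Modules.Sheaf

/-!
# Constructibility of loci of fibrewise properties of modules: reduction to the affine case

* `LocProp Q`: `Q` is a property of modules on schemes invariant under isomorphisms and local for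
  open covers.
* `isLocallyConstructible_of_affine`: reduction to the case of affine source and target.
-/

set_option autoImplicit false
universe u
open CategoryTheory AlgebraicGeometry CategoryTheory.Limits Topology TensorProduct

namespace K118.FibModLocus

open Groth.Agent.Ega43.LocusAff

/-- Properties of modules on schemes. -/
abbrev MProp : Type (u + 1) := ∀ Y : Scheme.{u}, Y.Modules → Prop

/-- Properties of modules which are invariant under isomorphisms and local. -/
structure LocProp (Q : MProp.{u}) : Prop where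
  iso : ∀ {Y : Scheme.{u}} {M N : Y.Modules}, (M ≅ N) → Q Y M → Q Y N
  pullIso : ∀ {Y Y' : Scheme.{u}} (e : Y' ⟶ Y) [IsIso e] (M : Y.Modules),
    Q Y M → Q Y' ((Scheme.Modules.pullback e).obj M)
  openCover : ∀ {Y : Scheme.{u}} (M : Y.Modules) (𝒰 : Scheme.OpenCover.{u} Y),
    Q Y M ↔ ∀ i, Q (𝒰.X i) ((Scheme.Modules.pullback (𝒰.f i)).obj M)

variable {X Y S T P P' K K' : Scheme.{u}}

/-- Composition of pullback functors on objects. -/
noncomputable def pullComp (a : P ⟶ X) (b : X ⟶ Y) (c : P ⟶ Y) (h : a ≫ b = c) (F : Y.Modules) :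
    (Scheme.Modules.pullback a).obj ((Scheme.Modules.pullback b).obj F) ≅
      (Scheme.Modules.pullback c).obj F :=
  (Scheme.Modules.pullbackComp a b).app F ≪≫ (Scheme.Modules.pullbackCongr h).app F

variable {Q : MProp.{u}}

theorem LocProp.iff_of_iso (hQ : LocProp Q) {M N : Y.Modules} (e : M ≅ N) : Q Y M ↔ Q Y N :=
  ⟨hQ.iso e, hQ.iso e.symm⟩

/-- Invariance under an isomorphism of schemes over `X`. -/
theorem LocProp.iff_of_isIso (hQ : LocProp Q) (e : P' ⟶ P) [IsIso e] (a : P ⟶ X) (a' : P' ⟶ X)
    (h : e ≫ a = a') (F : X.Modules) :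
    Q P' ((Scheme.Modules.pullback a').obj F) ↔ Q P ((Scheme.Modules.pullback a).obj F) := by
  constructor
  · intro H
    exact hQ.iso (pullComp (inv e) a' a (by rw [← h, IsIso.inv_hom_id_assoc]) F)
      (hQ.pullIso (inv e) _ H)
  · intro H
    exact hQ.iso (pullComp e a a' h F) (hQ.pullIso e _ H)

theorem LocProp.iff_of_isPullback (hQ : LocProp Q) {f : X ⟶ S} {k : K ⟶ S} {a : P ⟶ X} {b : P ⟶ K}
    {a' : P' ⟶ X} {b' : P' ⟶ K} (h : IsPullback a b f k) (h' : IsPullback a' b' f k)
    (F : X.Modules) :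
    Q P' ((Scheme.Modules.pullback a').obj F) ↔ Q P ((Scheme.Modules.pullback a).obj F) :=
  hQ.iff_of_isIso (h'.isoIsPullback _ _ h).hom a a' (IsPullback.isoIsPullback_hom_fst _ _ _ _) F

/-- The locus of points of the base where the restriction of `F` to the fibre has `Q`. -/
def locus (Q : MProp.{u}) (f : X ⟶ S) (F : X.Modules) : Set S :=
  {s | Q (f.fiber s) ((Scheme.Modules.pullback (f.fiberι s)).obj F)}

theorem LocProp.mem_locus_iff (hQ : LocProp Q) {f : X ⟶ S} {F : X.Modules} {s : S}
    {a : P ⟶ X} {b : P ⟶ Spec (S.residueField s)}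
    (h : IsPullback a b f (S.fromSpecResidueField s)) :
    s ∈ locus Q f F ↔ Q P ((Scheme.Modules.pullback a).obj F) :=
  hQ.iff_of_isPullback h (IsPullback.of_hasPullback f (S.fromSpecResidueField s)) F

/-- Base change along an open immersion. -/
theorem LocProp.locus_openImmersion (hQ : LocProp Q) {f : X ⟶ S} {F : X.Modules} {f' : Y ⟶ T}
    {g : Y ⟶ X} {t : T ⟶ S} [IsOpenImmersion t] (h : IsPullback g f' f t) :
    locus Q f' ((Scheme.Modules.pullback g).obj F) = t ⁻¹' locus Q f F := by
  ext x
  let e : Spec (T.residueField x) ⟶ Spec (S.residueField (t x)) := Spec.map (t.residueFieldMap x)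
  have he : IsIso e := inferInstance
  have h2 : IsPullback (pullback.fst f' (T.fromSpecResidueField x) ≫ g)
      (pullback.snd f' (T.fromSpecResidueField x)) f (e ≫ S.fromSpecResidueField (t x)) := by
    rw [Scheme.Hom.SpecMap_residueFieldMap_fromSpecResidueField]
    exact (IsPullback.of_hasPullback f' (T.fromSpecResidueField x)).paste_horiz h
  have h1 : IsPullback (pullback.fst f' (T.fromSpecResidueField x) ≫ g)
      (pullback.snd f' (T.fromSpecResidueField x) ≫ e) f (S.fromSpecResidueField (t x)) := by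
    refine IsPullback.of_iso h2 (Iso.refl _) (Iso.refl _) (asIso e) (Iso.refl _) ?_ ?_ ?_ ?_
    · simp
    · simp
    · simp
    · simp
  change x ∈ locus Q f' _ ↔ t x ∈ locus Q f F
  rw [hQ.mem_locus_iff h1, hQ.mem_locus_iff (IsPullback.of_hasPullback f' (T.fromSpecResidueField x))]
  exact hQ.iff_of_iso (pullComp _ _ _ rfl F)

/-- Localization on the source. -/
theorem LocProp.mem_locus_iff_openCover (hQ : LocProp Q) (f : X ⟶ S) (F : X.Modules)
    (𝒰 : Scheme.OpenCover.{u} X) (s : S) :
    s ∈ locus Q f F ↔ ∀ i, s ∈ locus Q (𝒰.f i ≫ f) ((Scheme.Modules.pullback (𝒰.f i)).obj F) := by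
  have h0 : s ∈ locus Q f F ↔ Q (f.fiber s) ((Scheme.Modules.pullback (f.fiberι s)).obj F) := Iff.rfl
  rw [h0, hQ.openCover _ (𝒰.pullback₁ (f.fiberι s))]
  refine forall_congr' fun i => ?_
  have h1 : IsPullback (pullback.snd (f.fiberι s) (𝒰.f i)) (pullback.fst (f.fiberι s) (𝒰.f i))
      (𝒰.f i) (f.fiberι s) := (IsPullback.of_hasPullback _ _).flip
  have h2 : IsPullback (pullback.snd (f.fiberι s) (𝒰.f i))
      (pullback.fst (f.fiberι s) (𝒰.f i) ≫ pullback.snd f (S.fromSpecResidueField s))
      (𝒰.f i ≫ f) (S.fromSpecResidueField s) :=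
    h1.flip.paste_horiz (IsPullback.of_hasPullback f (S.fromSpecResidueField s)).flip |>.flip
  rw [hQ.mem_locus_iff h2]
  refine hQ.iff_of_iso ?_
  exact pullComp _ _ _ rfl F ≪≫ (pullComp _ _ _ (pullback.condition.symm) F).symm

/-- The fibre of a morphism of affine schemes as a base change. -/
theorem isPullback_residueField {X : Scheme.{u}} {A : CommRingCat.{u}} (f : X ⟶ Spec A)
    (y : PrimeSpectrum A) :
    IsPullback (f.fiberι y)
      (f.fiberToSpecResidueField y ≫ Spec.map (Scheme.Spec.residueFieldIso A y).inv) f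
      (Spec.map (CommRingCat.ofHom (algebraMap A y.asIdeal.ResidueField))) := by
  have h0 : IsPullback (f.fiberι y) (f.fiberToSpecResidueField y) f
    ((Spec A).fromSpecResidueField y) := IsPullback.of_hasPullback _ _
  refine IsPullback.of_iso h0 (Iso.refl _) (Iso.refl _)
    (Scheme.Spec.mapIso (Scheme.Spec.residueFieldIso A y).symm.op) (Iso.refl _) ?_ ?_ ?_ ?_
  · simp
  · simp
    rfl
  · simp
  · rw [Iso.refl_hom, Category.comp_id]
    exact (Scheme.Spec.map_residueFieldIso_inv_eq_fromSpecResidueField A y).symm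

/-- Membership in the locus in the affine case. -/
theorem LocProp.mem_locus_Spec_iff (hQ : LocProp Q) (A B : Type u) [CommRing A] [CommRing B]
    [Algebra A B] (M : Type u) [AddCommGroup M] [Module B M] (p : PrimeSpectrum A) :
    p ∈ locus Q (Spec.map (CommRingCat.ofHom (algebraMap A B))) (tilde (ModuleCat.of B M)) ↔
      Q (Spec (.of (B ⊗[A] p.asIdeal.ResidueField)))
        (tilde (ModuleCat.of (B ⊗[A] p.asIdeal.ResidueField)
          ((B ⊗[A] p.asIdeal.ResidueField) ⊗[B] M))) := by
  have h1 : IsPushout (CommRingCat.ofHom (algebraMap A B))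
      (CommRingCat.ofHom (algebraMap A p.asIdeal.ResidueField)) _ _ :=
    CommRingCat.isPushout_tensorProduct A B p.asIdeal.ResidueField
  have h3 := isPullback_SpecMap_of_isPushout _ _ _ _ h1
  have h4 := hQ.iff_of_isPullback (isPullback_residueField
    (Spec.map (CommRingCat.ofHom (algebraMap A B))) p) h3 (tilde (ModuleCat.of B M))
  refine Iff.trans h4.symm ?_
  exact hQ.iff_of_iso
    (Groth.Agent.Ega1.TildePullback.pullbackTildeIso B (B ⊗[A] p.asIdeal.ResidueField) M)

/-- The condition on a point of the base in the affine case. -/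
def AffCond (Q : MProp.{u}) (A B : Type u) [CommRing A] [CommRing B] [Algebra A B] (M : Type u)
    [AddCommGroup M] [Module B M] (p : PrimeSpectrum A) : Prop :=
  Q (Spec (.of (B ⊗[A] p.asIdeal.ResidueField)))
    (tilde (ModuleCat.of (B ⊗[A] p.asIdeal.ResidueField)
      ((B ⊗[A] p.asIdeal.ResidueField) ⊗[B] M)))

/-- Reduction to the affine case. -/
theorem LocProp.isLocallyConstructible (hQ : LocProp Q)
    (H : ∀ (A B : Type u) [CommRing A] [CommRing B] [Algebra A B] [Algebra.FinitePresentation A B]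
      (M : Type u) [AddCommGroup M] [Module B M] [Module.FinitePresentation B M],
      IsConstructible {p : PrimeSpectrum A | AffCond Q A B M p})
    (f : X ⟶ S) (hf : FP f) (F : X.Modules) (hF : CohB1.IsFP F) :
    IsLocallyConstructible (locus Q f F) := by
  have H1 : ∀ (A B : CommRingCat.{u}) (φ : A ⟶ B) (_ : FP (Spec.map φ)) (F : (Spec B).Modules)
      (_ : CohB1.IsFP F), IsConstructible (locus Q (Spec.map φ) F) := by
    intro A B φ hφ F hF
    rw [fp_SpecMap_iff] at hφ
    let : Algebra A B := φ.hom.toAlgebra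
    have : Algebra.FinitePresentation A B := hφ
    obtain ⟨M, hM, ⟨e⟩⟩ := K574.PiFP.exists_tilde F hF
    have h1 := H A B M
    refine cast (congrArg (IsConstructible (X := PrimeSpectrum A)) (Set.ext fun p => ?_)) h1
    rw [Set.mem_ofPred_eq, AffCond, ← hQ.mem_locus_Spec_iff A B M p]
    exact hQ.iff_of_iso ((Scheme.Modules.pullback _).mapIso e.symm)
  have H2 : ∀ {X : Scheme.{u}} {A : CommRingCat.{u}} (f : X ⟶ Spec A) (_ : FP f) (F : X.Modules)
      (_ : CohB1.IsFP F), IsConstructible (locus Q f F) := by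
    intro X A f hf F hF
    have := hf.qc
    have : CompactSpace X := QuasiCompact.compactSpace_of_compactSpace f
    let 𝒰 := X.affineCover.finiteSubcover
    have h1 : locus Q f F = ⋂ i, locus Q (𝒰.f i ≫ f) ((Scheme.Modules.pullback (𝒰.f i)).obj F) := by
      ext s
      rw [Set.mem_iInter]
      exact hQ.mem_locus_iff_openCover f F 𝒰 s
    rw [h1]
    refine IsConstructible.iInter fun i ↦ ?_
    have h2 : FP (𝒰.f i ≫ f) := FP.of_isOpenImmersion_of_isAffine _ _ hf
    have key : ∀ (W : Scheme.{u}) (_ : ∃ C : CommRingCat.{u}, W = Spec C) (h : W ⟶ Spec A),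
        FP h → ∀ (G : W.Modules), CohB1.IsFP G → IsConstructible (locus Q h G) := by
      rintro _ ⟨C, rfl⟩ h hh G hG
      obtain ⟨φ, rfl⟩ := Spec.map_surjective h
      exact H1 _ _ φ hh G hG
    exact key _ ⟨_, rfl⟩ _ h2 _ (Groth.Agent.FormalA.PullbackQC.isFP_pullback _ _ hF)
  refine .of_isOpenCover (U := fun U : S.affineOpens ↦ U.1) (iSup_affineOpens_eq_top S) fun U ↦ ?_
  have hU : IsAffineOpen U.1 := U.2
  have h1 := H2 (pullback.snd f hU.fromSpec) (hf.snd _)
    ((Scheme.Modules.pullback (pullback.fst f hU.fromSpec)).obj F)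
    (Groth.Agent.FormalA.PullbackQC.isFP_pullback _ _ hF)
  rw [hQ.locus_openImmersion (IsPullback.of_hasPullback f hU.fromSpec)] at h1
  have h2 := (h1.isLocallyConstructible.preimage_of_isOpenEmbedding
    hU.isoSpec.hom.isOpenEmbedding)
  convert! h2 using 1
  rw [← Set.preimage_comp, ← TopCat.coe_comp, ← Scheme.Hom.comp_base, hU.isoSpec_hom_fromSpec]
  rfl

end K118.FibModLocus
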