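import Groth.Agent.S1495
import Groth.Agent.S12128
import Groth.Agent.S2491
import Groth.Agent.PerfB.ApproxMain
import Groth.Agent.PerfB.StructFlat
import Groth.Agent.Ega3B.LimInvK1
import Groth.Agent.Flat2H.FamOpen
import Groth.Agent.Ega2.RelAmpRows
import Groth.Agent.Cons9.K118.FibModLocus
import Groth.Agent.Fdesc.LocGen

/-!
# The locus of points over which an invertible module is ample on the fibre

`f : X ⟶ Y`, `L` invertible on `X`, `ampLocus f L = {y | L|X_y is ample}`.

* `mem_ampLocus_iff`: can be tested over any field;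
* `ampLocus_baseChange`: commutes with base change;
* `isOpen_ampLocus`: open if `f` is proper;
* `isLocallyConstructible_ampLocus`: locally constructible if `f` is proper of finite presentation.
-/

set_option autoImplicit false
universe u
open CategoryTheory AlgebraicGeometry CategoryTheory.Limits Topology TopologicalSpace

namespace K118.AmpleLocus

open K118.FibModLocus Groth.Agent.Flat2H.FamDict Groth.Agent.Flat2H.FamOpen

variable {X Y X' Y' P : Scheme.{u}}

theorem isAmple_iff_of_isPullback [IsAffine Y] [IsAffine Y'] {f : X ⟶ Y} {g : Y' ⟶ Y}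
    [QuasiCompact f] [Flat g] [Surjective g] {a : P ⟶ X} {b : P ⟶ Y'} (h : IsPullback a b f g)
    {L : X.Modules} (hL : PicF.IsInvertible L) :
    CohB1.IsAmple ((Scheme.Modules.pullback a).obj L) ↔ CohB1.IsAmple L := by
  have : IsAffineHom a := MorphismProperty.of_isPullback h.flip inferInstance
  refine ⟨fun H => ?_, fun H => isAmple_pullback_of_isAffineHom a H⟩
  refine Groth.Agent.S2491.result f g L hL ?_
  let e := (IsPullback.of_hasPullback f g).isoIsPullback _ _ h
  refine isAmple_of_iso (pullComp e.hom a (pullback.fst f g) (by simp [e]) L) ?_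
  exact isAmple_pullback_of_isAffineHom e.hom H

/-- The set of points over which `L` is ample on the fibre. -/
def ampLocus (f : X ⟶ Y) (L : X.Modules) : Set Y :=
  {y | CohB1.IsAmple ((Scheme.Modules.pullback (f.fiberι y)).obj L)}

theorem ampLocus_of_iso (f : X ⟶ Y) {L M : X.Modules} (e : L ≅ M) :
    ampLocus f L = ampLocus f M := by
  ext y
  exact ⟨fun h => isAmple_of_iso ((Scheme.Modules.pullback _).mapIso e) h,
    fun h => isAmple_of_iso ((Scheme.Modules.pullback _).mapIso e.symm) h⟩

/-- Ampleness on the fibres can be tested over any field. -/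
theorem mem_ampLocus_iff {f : X ⟶ Y} [QuasiCompact f] {L : X.Modules} (hL : PicF.IsInvertible L)
    {K : Type u} [Field K] {t : Spec (.of K) ⟶ Y} {a : P ⟶ X} {b : P ⟶ Spec (.of K)}
    (h : IsPullback a b f t) (z : Spec (.of K)) :
    t z ∈ ampLocus f L ↔ CohB1.IsAmple ((Scheme.Modules.pullback a).obj L) := by
  obtain rfl : z = IsLocalRing.closedPoint K := Subsingleton.elim _ _
  let y := t (IsLocalRing.closedPoint K)
  let e : Spec (.of K) ⟶ Spec (Y.residueField y) :=
    Spec.map (Y.descResidueField (Scheme.stalkClosedPointTo t))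
  have he : e ≫ Y.fromSpecResidueField y = t :=
    Scheme.descResidueField_stalkClosedPointTo_fromSpecResidueField K Y t
  have h1 : IsPullback (f.fiberι y) (f.fiberToSpecResidueField y) f (Y.fromSpecResidueField y) :=
    IsPullback.of_hasPullback _ _
  let a' : P ⟶ f.fiber y := h1.lift a (b ≫ e) (by rw [h.w, Category.assoc, he])
  have ha' : a' ≫ f.fiberι y = a := h1.lift_fst _ _ _
  have h2 : IsPullback a' b (f.fiberToSpecResidueField y) e := by
    refine IsPullback.of_right ?_ (h1.lift_snd _ _ _) h1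
    rw [ha', he]
    exact h
  have hf : Flat e := inferInstance
  have hs : Surjective e := inferInstance
  have hqc : QuasiCompact (f.fiberToSpecResidueField y) := inferInstance
  have hL' : PicF.IsInvertible ((Scheme.Modules.pullback (f.fiberι y)).obj L) :=
    Groth.Agent.Fdesc.LocGen.isInvertible_pullback _ hL
  refine Iff.trans (isAmple_iff_of_isPullback h2 hL').symm ?_
  exact ⟨isAmple_of_iso (pullComp a' (f.fiberι y) a ha' L),
    isAmple_of_iso (pullComp a' (f.fiberι y) a ha' L).symm⟩

/-- Base change. -/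
theorem ampLocus_baseChange {f : X ⟶ Y} [QuasiCompact f] {g : Y' ⟶ Y} {f' : X' ⟶ Y'} {g' : X' ⟶ X}
    (h : IsPullback g' f' f g) {L : X.Modules} (hL : PicF.IsInvertible L) :
    ampLocus f' ((Scheme.Modules.pullback g').obj L) = g ⁻¹' ampLocus f L := by
  ext y
  have h1 : IsPullback (f'.fiberι y ≫ g') (f'.fiberToSpecResidueField y) f
      (Y'.fromSpecResidueField y ≫ g) :=
    (IsPullback.of_hasPullback f' (Y'.fromSpecResidueField y)).paste_horiz h
  let z : Spec (Y'.residueField y) := default
  have h2 := mem_ampLocus_iff (K := Y'.residueField y) hL h1 z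
  have h3 : (Y'.fromSpecResidueField y ≫ g) z = g y := by
    rw [Scheme.Hom.comp_apply, Scheme.fromSpecResidueField_apply]
  rw [h3] at h2
  refine Iff.trans ?_ h2.symm
  exact ⟨isAmple_of_iso (pullComp (f'.fiberι y) g' _ rfl L),
    isAmple_of_iso (pullComp (f'.fiberι y) g' _ rfl L).symm⟩

theorem isOpen_ampLocus (f : X ⟶ Y) [IsProper f] {L : X.Modules} (hL : PicF.IsInvertible L) :
    IsOpen (ampLocus f L) := by
  rw [isOpen_iff_forall_mem_open]
  intro y hy
  obtain ⟨V, hyV, hV⟩ := Groth.Agent.S1495.result f L hL y hy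
  refine ⟨V, ?_, V.2, hyV⟩
  intro v hv
  have h1 := ampLocus_baseChange (g := V.ι) (f' := f ∣_ V) (g' := (f ⁻¹ᵁ V).ι)
    (isPullback_morphismRestrict f V).flip hL
  have h2 : (⟨v, hv⟩ : V) ∈ ampLocus (f ∣_ V) (L.restrict (f ⁻¹ᵁ V).ι) :=
    Groth.Agent.Ega2.RelAmp.isRelAmple_iff_isAmple.1
      (Groth.Agent.Ega2.RelAmp.relAmple_baseChange (f ∣_ V) _ _ hV)
  rw [ampLocus_of_iso (f ∣_ V) ((Scheme.Modules.restrictFunctorIsoPullback (f ⁻¹ᵁ V).ι).app L)] at h2
  have h3 := h1.le h2
  exact h3

/-- Noetherian models. -/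
theorem exists_model (A : Type u) [CommRing A] (f : X ⟶ Spec (CommRingCat.of A)) [IsProper f]
    [LocallyOfFinitePresentation f] {L : X.Modules} (hL : PicF.IsInvertible L) :
    ∃ (R : CommRingCat.{u}) (_ : IsNoetherianRing R) (φ : R ⟶ CommRingCat.of A) (X₀ : Scheme.{u})
      (f₀ : X₀ ⟶ Spec R) (g : X ⟶ X₀) (L₀ : X₀.Modules), IsProper f₀ ∧ PicF.IsInvertible L₀ ∧
        IsPullback g f f₀ (Spec.map φ) ∧ Nonempty ((Scheme.Modules.pullback g).obj L₀ ≅ L) := by
  obtain ⟨A₀, X₀, f₀, g, F₀, hA₀, hlfp, hqc, hqs, hpb, -, -, -, -, hprop, -, -⟩ :=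
    Groth.Agent.PerfB.ApproxMain.exists_noetherian_model A f (Coh.structureModule X)
      Groth.Agent.PerfB.StructFlat.isFP_structure
  have hprop' := hprop inferInstance
  obtain ⟨B', hB', w, M, hM, he⟩ := Groth.Agent.Ega3B.LimInv.exists_fg_invertible (R := A₀) (B := A)
    f₀ hpb hL
  have h1 : Algebra.FiniteType ℤ A₀ := (Subalgebra.fg_iff_finiteType _).1 hA₀
  have h2 : IsNoetherianRing A₀ := Algebra.FiniteType.isNoetherianRing ℤ A₀
  have h3 : Algebra.FiniteType A₀ B' := (Subalgebra.fg_iff_finiteType _).1 hB'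
  have h4 : IsNoetherianRing B' := Algebra.FiniteType.isNoetherianRing A₀ B'
  refine ⟨CommRingCat.of B', h4, CommRingCat.ofHom B'.val.toRingHom, _, pullback.snd f₀ _,
    pullback.lift g (f ≫ Spec.map (CommRingCat.ofHom B'.val.toRingHom)) w, M, inferInstance, hM, ?_, he⟩
  refine IsPullback.of_right ?_ (pullback.lift_snd _ _ _) (IsPullback.of_hasPullback f₀ _)
  rw [pullback.lift_fst]
  convert hpb using 1
  rw [← Spec.map_comp]
  rfl

theorem isConstructible_ampLocus_Spec (A : Type u) [CommRing A] (f : X ⟶ Spec (CommRingCat.of A))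
    [IsProper f] [LocallyOfFinitePresentation f] {L : X.Modules} (hL : PicF.IsInvertible L) :
    IsConstructible (ampLocus f L) := by
  obtain ⟨R, hR, φ, X₀, f₀, g, L₀, h1, h2, h3, ⟨e⟩⟩ := exists_model A f hL
  rw [← ampLocus_of_iso f e, ampLocus_baseChange h3 h2]
  have h4 : IsOpen (ampLocus f₀ L₀) := isOpen_ampLocus f₀ h2
  have h5 : NoetherianSpace (Spec R) := inferInstanceAs (NoetherianSpace (PrimeSpectrum R))
  refine IsCompact.isConstructible ?_ (h4.preimage (Spec.map φ).continuous)
  exact QuasiCompact.isCompact_preimage (f := Spec.map φ) _ h4 (NoetherianSpace.isCompact _)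

/-- The locus of points over which `L` is ample on the fibre is locally constructible. -/
theorem isLocallyConstructible_ampLocus (f : X ⟶ Y) [IsProper f] [LocallyOfFinitePresentation f]
    {L : X.Modules} (hL : PicF.IsInvertible L) : IsLocallyConstructible (ampLocus f L) := by
  refine .of_isOpenCover (U := fun U : Y.affineOpens ↦ U.1) (iSup_affineOpens_eq_top Y) fun U ↦ ?_
  have hU : IsAffineOpen U.1 := U.2
  have h1 := isConstructible_ampLocus_Spec Γ(Y, U.1) (pullback.snd f hU.fromSpec)
    (Groth.Agent.Fdesc.LocGen.isInvertible_pullback (pullback.fst f hU.fromSpec) hL)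
  rw [ampLocus_baseChange (IsPullback.of_hasPullback f hU.fromSpec) hL] at h1
  have h2 := (h1.isLocallyConstructible.preimage_of_isOpenEmbedding
    hU.isoSpec.hom.isOpenEmbedding)
  convert! h2 using 1
  rw [← Set.preimage_comp, ← TopCat.coe_comp, ← Scheme.Hom.comp_base, hU.isoSpec_hom_fromSpec]
  rfl

end K118.AmpleLocus
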