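import Groth.Agent.VarietyA.LocDim
import Mathlib.AlgebraicGeometry.Fiber
import Mathlib.Topology.Sober
import Mathlib.Topology.LocallyClosed

/-!
# Irreducible components of locally closed subsets of fibres and their dimensions

For `f : X ⟶ S` locally of finite type and `W ⊆ f⁻¹(s)` locally closed in the fibre, the irreducible
components of `W` are the closures in `W` of the points of `W` which have no proper generization in `W`, and the
dimension of the component with generic point `x` is the transcendence degree `rtd f x`.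
-/

set_option autoImplicit false
universe u
open CategoryTheory AlgebraicGeometry Topology TopologicalSpace

namespace K118.FibComp

open Groth.Agent.CycB.RelDim Groth.Agent.VarietyA.LocDim

theorem dim_image {A B : Type*} [TopologicalSpace A] [TopologicalSpace B] {j : A → B}
    (hj : IsEmbedding j) (T : Set A) : topologicalKrullDim ↥T = topologicalKrullDim ↥(j '' T) :=
  IsHomeomorph.topologicalKrullDim_eq _ (hj.homeomorphImage T).isHomeomorph

section Top

variable {Y : Type*} [TopologicalSpace Y] [T0Space Y]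

/-- In a sober space the irreducible components are the closures of the maximal points. -/
theorem mem_irreducibleComponents_iff [QuasiSober Y] (T : Set Y) :
    T ∈ irreducibleComponents Y ↔ ∃ x : Y, (∀ z, z ⤳ x → z = x) ∧ T = closure {x} := by
  constructor
  · intro hT
    have hcl : IsClosed T := isClosed_of_mem_irreducibleComponents T hT
    have hirr : IsIrreducible T := hT.1
    refine ⟨hirr.genericPoint, fun z hz => ?_, (hirr.closure_genericPoint hcl).symm⟩
    have h1 : T ⊆ closure {z} := by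
      rw [← hirr.closure_genericPoint hcl]
      exact closure_minimal (by simpa using hz.mem_closure) isClosed_closure
    have h2 : closure {z} ⊆ T := hT.2 isIrreducible_singleton.closure h1
    have h3 : hirr.genericPoint ⤳ z := by
      rw [specializes_iff_mem_closure, hirr.closure_genericPoint hcl]
      exact h2 (subset_closure rfl)
    exact (hz.antisymm h3).eq
  · rintro ⟨x, hx, rfl⟩
    refine ⟨isIrreducible_singleton.closure, fun T hT hle => ?_⟩
    have hT' : IsIrreducible (closure T) := IsIrreducible.closure hT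
    have h1 : hT'.genericPoint ⤳ x := by
      rw [specializes_iff_mem_closure, hT'.closure_genericPoint isClosed_closure]
      exact subset_closure (hle (subset_closure rfl))
    have h2 := hx _ h1
    rw [← h2, hT'.closure_genericPoint isClosed_closure]
    exact subset_closure

end Top

variable {X S : Scheme.{u}}

theorem exists_data (f : X ⟶ S) (s : S) (W : Set X) (hW : W ⊆ f ⁻¹' {s})
    (hc : IsLocallyClosed (Subtype.val ⁻¹' W : Set ↥(f ⁻¹' {s}))) :
    ∃ (V : (f.fiber s).Opens) (C : Set (f.fiber s)), IsClosed C ∧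
      W = f.fiberι s '' ((V : Set (f.fiber s)) ∩ C) := by
  obtain ⟨U, C, hU, hC, h⟩ := hc.preimage (f.fiberHomeo s).continuous
  refine ⟨⟨U, hU⟩, C, hC, ?_⟩
  change W = f.fiberι s '' (U ∩ C)
  rw [← h]
  ext x
  constructor
  · intro hx
    refine ⟨(f.fiberHomeo s).symm ⟨x, hW hx⟩, ?_, f.fiberι_fiberHomeo_symm s ⟨x, hW hx⟩⟩
    change ((f.fiberHomeo s) ((f.fiberHomeo s).symm ⟨x, hW hx⟩)).1 ∈ W
    rw [Homeomorph.apply_symm_apply]
    exact hx
  · rintro ⟨y, hy, rfl⟩
    exact hy

theorem dim_closure_singleton (f : X ⟶ S) [LocallyOfFiniteType f] (s : S) (W : Set X)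
    (hW : W ⊆ f ⁻¹' {s}) (hc : IsLocallyClosed (Subtype.val ⁻¹' W : Set ↥(f ⁻¹' {s})))
    (x : W) : ∃ n : ℕ, rtd f x.1 = n ∧ topologicalKrullDim ↥(closure {x} : Set ↥W) = n := by
  obtain ⟨V, C, hC, rfl⟩ := exists_data f s W hW hc
  obtain ⟨_, ⟨y, ⟨hyV, hyC⟩, rfl⟩⟩ := x
  have hft : LocallyOfFiniteType (f.fiberToSpecResidueField s) :=
    inferInstanceAs (LocallyOfFiniteType (Limits.pullback.snd f (S.fromSpecResidueField s)))
  obtain ⟨n, hn, hd⟩ := exists_dim_closure (V.ι ≫ f.fiberToSpecResidueField s) (isAffineOpen_top _)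
    ((Scheme.ΓSpecIso (S.residueField s)).commRingCatIsoToRingEquiv.toMulEquiv.isField
      (Field.toIsField _)) ⟨y, hyV⟩
  rw [rtd_ι_comp, rtd_fiberToSpecResidueField] at hn
  refine ⟨n, hn, ?_⟩
  rw [← hd, dim_image (V.ι ≫ f.fiberι s).isEmbedding, dim_image IsEmbedding.subtypeVal]
  have hemb := (f.fiberι s).isEmbedding
  refine congrArg (fun A : Set X => topologicalKrullDim ↥A) (Set.ext fun z => ?_)
  simp only [Set.mem_image]
  constructor
  · rintro ⟨⟨_, ⟨w, ⟨hwV, hwC⟩, rfl⟩⟩, hw, rfl⟩
    refine ⟨⟨w, hwV⟩, specializes_iff_mem_closure.mp ?_, rfl⟩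
    rw [← specializes_iff_mem_closure] at hw
    have h1 : f.fiberι s y ⤳ f.fiberι s w := hw.map continuous_subtype_val
    exact V.ι.isOpenEmbedding.isInducing.specializes_iff.mp (hemb.isInducing.specializes_iff.mp h1)
  · rintro ⟨⟨w, hwV⟩, hw, rfl⟩
    have hw' : (⟨y, hyV⟩ : V) ⤳ (⟨w, hwV⟩ : V) := specializes_iff_mem_closure.mpr hw
    have h1 : y ⤳ w := hw'.map V.ι.continuous
    refine ⟨⟨f.fiberι s w, w, ⟨hwV, h1.mem_closed hC hyC⟩, rfl⟩, ?_, rfl⟩
    rw [← specializes_iff_mem_closure]
    exact IsInducing.subtypeVal.specializes_iff.mp (h1.map (f.fiberι s).continuous)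

theorem quasiSober_coe (f : X ⟶ S) (s : S) (W : Set X)
    (hW : W ⊆ f ⁻¹' {s}) (hc : IsLocallyClosed (Subtype.val ⁻¹' W : Set ↥(f ⁻¹' {s}))) :
    QuasiSober W := by
  have h0 : QuasiSober ↥(f ⁻¹' {s}) := (f.fiberHomeo s).symm.isClosedEmbedding.quasiSober
  obtain ⟨U, C, hU, hC, h⟩ := hc
  have h1 : QuasiSober ↥U := hU.isOpenEmbedding_subtypeVal.quasiSober
  let j : W → U := fun w => ⟨⟨w.1, hW w.2⟩, by
    have : (⟨w.1, hW w.2⟩ : ↥(f ⁻¹' {s})) ∈ U ∩ C := h ▸ w.2
    exact this.1⟩
  have hj : IsClosedEmbedding j := by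
    refine ⟨⟨?_, ?_⟩, ?_⟩
    · have h2 : IsInducing (fun w : U => (w.1.1 : X)) :=
        IsInducing.subtypeVal.comp IsInducing.subtypeVal
      refine IsInducing.of_comp ?_ h2.continuous (g := fun w : U => (w.1.1 : X)) ?_
      · exact (continuous_subtype_val.subtype_mk _).subtype_mk _
      · exact IsInducing.subtypeVal
    · intro a b hab
      exact Subtype.ext (congrArg (fun w : U => (w.1.1 : X)) hab)
    · have h3 : Set.range j = Subtype.val ⁻¹' C := by
        ext w
        constructor
        · rintro ⟨a, rfl⟩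
          have : (⟨a.1, hW a.2⟩ : ↥(f ⁻¹' {s})) ∈ U ∩ C := h ▸ a.2
          exact this.2
        · intro hw
          have h4 : w.1 ∈ U ∩ C := ⟨w.2, hw⟩
          rw [← h] at h4
          exact ⟨⟨w.1.1, h4⟩, rfl⟩
      rw [h3]
      exact hC.preimage continuous_subtype_val
  exact hj.quasiSober

/-- The dimensions of the irreducible components of a locally closed subset of a fibre. -/
theorem exists_component_iff (f : X ⟶ S) [LocallyOfFiniteType f] (s : S) (W : Set X)
    (hW : W ⊆ f ⁻¹' {s}) (hc : IsLocallyClosed (Subtype.val ⁻¹' W : Set ↥(f ⁻¹' {s})))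
    (d : WithBot ℕ∞) :
    (∃ T ∈ irreducibleComponents ↥W, topologicalKrullDim ↥T = d) ↔
      ∃ x ∈ W, (∀ z ∈ W, z ⤳ x → z = x) ∧ ∃ n : ℕ, rtd f x = n ∧ d = n := by
  have := quasiSober_coe f s W hW hc
  constructor
  · rintro ⟨T, hT, rfl⟩
    obtain ⟨x, hx, rfl⟩ := (mem_irreducibleComponents_iff T).mp hT
    obtain ⟨n, hn, hd⟩ := dim_closure_singleton f s W hW hc x
    refine ⟨x.1, x.2, fun z hz hzx => ?_, n, hn, hd⟩
    exact congrArg Subtype.val (hx ⟨z, hz⟩ (IsInducing.subtypeVal.specializes_iff.mp hzx))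
  · rintro ⟨x, hx, hmax, n, hn, rfl⟩
    obtain ⟨m, hm, hd⟩ := dim_closure_singleton f s W hW hc ⟨x, hx⟩
    have : n = m := by
      rw [hm] at hn
      exact_mod_cast hn.symm
    subst this
    refine ⟨_, (mem_irreducibleComponents_iff _).mpr ⟨⟨x, hx⟩, fun z hz => ?_, rfl⟩, hd⟩
    exact Subtype.ext (hmax z.1 z.2 (hz.map continuous_subtype_val))

end K118.FibComp
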