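import Groth.Agent.Cons9.K118.FibInjConstr
import Mathlib.LinearAlgebra.TensorProduct.RightExactness
import Mathlib.Algebra.Module.FinitePresentation

/-!
# The set of points of the base over which a sequence of finitely presented modules is
fibrewise exact is constructible
-/

set_option autoImplicit false
universe u v v' v'' w
open TensorProduct Topology

namespace K118.FibExact

open K118.FibInj K118.FibInjConstr

theorem exact_lTensor_iff {R F G H C D : Type*} [CommRing R]
    [AddCommGroup F] [Module R F] [AddCommGroup G] [Module R G] [AddCommGroup H] [Module R H]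
    [AddCommGroup C] [Module R C] [AddCommGroup D] [Module R D]
    (u : F →ₗ[R] G) (v : G →ₗ[R] H) (π : G →ₗ[R] C) (d : H →ₗ[R] D) (c : C →ₗ[R] D)
    (hπ : Function.Surjective π) (hd : Function.Surjective d)
    (h1 : Function.Exact u π) (h2 : Function.Exact (v ∘ₗ u) d) (hc : c ∘ₗ π = d ∘ₗ v)
    (K : Type*) [CommRing K] [Algebra R K] :
    Function.Exact (u.lTensor K) (v.lTensor K) ↔
      Function.Injective (c.lTensor K) ∧ Function.Injective (d.lTensor K) := by
  replace h1 : Function.Exact (u.lTensor K) (π.lTensor K) := lTensor_exact K h1 hπ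
  replace h2 : Function.Exact ((v ∘ₗ u).lTensor K) (d.lTensor K) := lTensor_exact K h2 hd
  have h3 : c.lTensor K ∘ₗ π.lTensor K = d.lTensor K ∘ₗ v.lTensor K := by
    rw [← LinearMap.lTensor_comp, ← LinearMap.lTensor_comp, hc]
  have h4 : (v ∘ₗ u).lTensor K = v.lTensor K ∘ₗ u.lTensor K := LinearMap.lTensor_comp ..
  have h3' : ∀ x, c.lTensor K (π.lTensor K x) = d.lTensor K (v.lTensor K x) :=
    fun x => LinearMap.congr_fun h3 x
  have h4' : ∀ x, (v ∘ₗ u).lTensor K x = v.lTensor K (u.lTensor K x) :=
    fun x => LinearMap.congr_fun h4 x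
  have hπ' : Function.Surjective (π.lTensor K) := LinearMap.lTensor_surjective K hπ
  constructor
  · intro h
    refine ⟨?_, ?_⟩
    · rw [injective_iff_map_eq_zero]
      intro x hx
      obtain ⟨g, rfl⟩ := hπ' x
      rw [h3'] at hx
      obtain ⟨f, hf⟩ := (h2 _).mp hx
      rw [h4', h.apply_apply_eq_zero] at hf
      obtain ⟨f', rfl⟩ := (h g).mp hf.symm
      exact h1.apply_apply_eq_zero f'
    · rw [injective_iff_map_eq_zero]
      intro x hx
      obtain ⟨f, rfl⟩ := (h2 x).mp hx
      rw [h4', h.apply_apply_eq_zero]
  · rintro ⟨hc, hd⟩ g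
    constructor
    · intro hg
      refine (h1 g).mp (hc ?_)
      rw [map_zero, h3', hg, map_zero]
    · rintro ⟨f, rfl⟩
      refine hd ?_
      rw [map_zero, ← h4', h2.apply_apply_eq_zero]

section

variable {R B : Type*} [CommRing R] [CommRing B] [Algebra R B] {F G H : Type*}
  [AddCommGroup F] [Module B F] [Module R F] [IsScalarTower R B F]
  [AddCommGroup G] [Module B G] [Module R G] [IsScalarTower R B G]
  [AddCommGroup H] [Module B H] [Module R H] [IsScalarTower R B H]
  (u : F →ₗ[B] G) (v : G →ₗ[B] H)

/-- The map induced by `v` from `coker u` to `coker (v ∘ u)`. -/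
def cokMap : (G ⧸ LinearMap.range u) →ₗ[B] (H ⧸ LinearMap.range (v ∘ₗ u)) :=
  Submodule.mapQ _ _ v (by
    rintro _ ⟨x, rfl⟩
    exact ⟨x, rfl⟩)

/-- The projection from `H` to `coker (v ∘ u)`. -/
def cokProj : H →ₗ[B] (H ⧸ LinearMap.range (v ∘ₗ u)) := Submodule.mkQ _

theorem exact_baseChange_iff' (K : Type*) [CommRing K] [Algebra R K]
    {C D : Type*} [AddCommGroup C] [Module B C] [Module R C] [IsScalarTower R B C]
    [AddCommGroup D] [Module B D] [Module R D] [IsScalarTower R B D]
    (π : G →ₗ[B] C) (d : H →ₗ[B] D) (c : C →ₗ[B] D)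
    (hπ : Function.Surjective π) (hd : Function.Surjective d)
    (h1 : Function.Exact u π) (h2 : Function.Exact (v ∘ₗ u) d) (hc : c ∘ₗ π = d ∘ₗ v) :
    Function.Exact ((u.restrictScalars R).baseChange K) ((v.restrictScalars R).baseChange K) ↔
      Function.Injective ((c.restrictScalars R).baseChange K) ∧
      Function.Injective ((d.restrictScalars R).baseChange K) :=
  exact_lTensor_iff (u.restrictScalars R) (v.restrictScalars R)
    (π.restrictScalars R) (d.restrictScalars R) (c.restrictScalars R) hπ hd
    h1 h2 (LinearMap.ext fun x => LinearMap.congr_fun hc x) K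

theorem exact_baseChange_iff (K : Type*) [CommRing K] [Algebra R K] :
    Function.Exact ((u.restrictScalars R).baseChange K) ((v.restrictScalars R).baseChange K) ↔
      Function.Injective (((cokMap u v).restrictScalars R).baseChange K) ∧
      Function.Injective (((cokProj u v).restrictScalars R).baseChange K) :=
  exact_baseChange_iff' u v K (LinearMap.range u).mkQ (cokProj u v) (cokMap u v)
    (Submodule.mkQ_surjective _) (Submodule.mkQ_surjective _)
    (LinearMap.exact_map_mkQ_range u)
    (LinearMap.exact_map_mkQ_range (v ∘ₗ u)) rfl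

end

theorem isConstructible_setOf_exact {R : Type u} {B : Type w} [CommRing R] [CommRing B]
    [Algebra R B] [Algebra.FinitePresentation R B] {F : Type v} {G : Type v'} {H : Type v''}
    [AddCommGroup F] [Module B F] [Module R F] [IsScalarTower R B F] [Module.Finite B F]
    [AddCommGroup G] [Module B G] [Module R G] [IsScalarTower R B G] [Module.FinitePresentation B G]
    [AddCommGroup H] [Module B H] [Module R H] [IsScalarTower R B H] [Module.FinitePresentation B H]
    (u : F →ₗ[B] G) (v : G →ₗ[B] H) :
    IsConstructible {p : PrimeSpectrum R |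
      Function.Exact ((u.restrictScalars R).baseChange p.asIdeal.ResidueField)
        ((v.restrictScalars R).baseChange p.asIdeal.ResidueField)} := by
  have hC : Module.FinitePresentation B (G ⧸ LinearMap.range u) :=
    Module.finitePresentation_of_surjective (Submodule.mkQ _) (Submodule.mkQ_surjective _) (by
      rw [Submodule.ker_mkQ]
      rw [LinearMap.range_eq_map]
      exact Module.Finite.fg_top.map u)
  have hD : Module.FinitePresentation B (H ⧸ LinearMap.range (v ∘ₗ u)) :=
    Module.finitePresentation_of_surjective (Submodule.mkQ _) (Submodule.mkQ_surjective _) (by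
      rw [Submodule.ker_mkQ, LinearMap.range_eq_map]
      exact Module.Finite.fg_top.map (v ∘ₗ u))
  have h1 := isConstructible_setOf_injective (R := R) (cokMap u v)
  have h2 := isConstructible_setOf_injective (R := R) (cokProj u v)
  convert h1.inter h2 using 1
  ext p
  exact exact_baseChange_iff u v p.asIdeal.ResidueField

/-- A constructible subset of the spectrum of a domain containing the generic point contains a
nonempty standard open. -/
theorem exists_basicOpen_subset {R : Type*} [CommRing R] [IsDomain R] {E : Set (PrimeSpectrum R)}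
    (hE : IsConstructible E) (h : (⊥ : PrimeSpectrum R) ∈ E) :
    ∃ f : R, f ≠ 0 ∧ (PrimeSpectrum.basicOpen f : Set (PrimeSpectrum R)) ⊆ E := by
  obtain ⟨S, rfl⟩ := PrimeSpectrum.exists_constructibleSetData_iff.mpr hE
  rw [PrimeSpectrum.ConstructibleSetData.toSet, Set.mem_iUnion₂] at h
  obtain ⟨C, hC, hC1, hC2⟩ := h
  refine ⟨C.f, ?_, fun p hp => ?_⟩
  · rintro h0
    apply hC2
    change ({C.f} : Set R) ⊆ _
    rw [h0]
    simp
  · rw [PrimeSpectrum.ConstructibleSetData.toSet, Set.mem_iUnion₂]
    refine ⟨C, hC, ?_, ?_⟩
    · have h3 : ∀ i, C.g i = 0 := fun i => by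
        have := hC1 (Set.mem_range_self i)
        simpa using this
      rintro _ ⟨i, rfl⟩
      change C.g i ∈ p.asIdeal
      rw [h3]
      exact zero_mem _
    · intro h
      exact hp (h rfl)

end K118.FibExact
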