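import Groth.Agent.Cons9.K118.FibModLocus
import Groth.Agent.PerfC.TildeFLF
import Groth.Agent.PerfC.TildeProj
import Groth.Agent.PerfC.PullRestrict
import Groth.Agent.Dcoh.ResFree
import Mathlib.Algebra.TrivSqZeroExt.Basic
import Mathlib.RingTheory.Finiteness.ModuleFinitePresentation
import Mathlib.LinearAlgebra.TensorProduct.Prod

/-!
# The locus where the restriction of a module to the fibre is finite locally free
-/

set_option autoImplicit false
universe u
open CategoryTheory AlgebraicGeometry CategoryTheory.Limits Topology TensorProduct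

namespace K118.FibFLF

open Groth.Agent.Ega43.LocusAff K118.FibModLocus

theorem locProp_flf : LocProp (fun (Y : Scheme.{u}) M => FlatMod.IsFinLocFree (X := Y) M) where
  iso e h := Groth.Agent.Dcoh.ResFree.isFinLocFree_of_iso e h
  pullIso e _ M h := Groth.Agent.PerfC.PullRestrict.isFinLocFree_pullback e h
  openCover M 𝒰 := by
    refine ⟨fun h i => Groth.Agent.PerfC.PullRestrict.isFinLocFree_pullback _ h, fun h =>
      Groth.Agent.Dcoh.ResFree.isFinLocFree_of_local fun x => ?_⟩
    obtain ⟨y, hy⟩ := 𝒰.covers x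
    exact ⟨_, 𝒰.f _, inferInstance, y, hy, Groth.Agent.Dcoh.ResFree.isFinLocFree_of_iso
      ((Scheme.Modules.restrictFunctorIsoPullback (𝒰.f _)).symm.app M) (h _)⟩

theorem flat_prod {R A B : Type u} [CommRing R] [AddCommGroup A] [AddCommGroup B] [Module R A]
    [Module R B] [Module.Flat R A] [Module.Flat R B] : Module.Flat R (A × B) := by
  rw [Module.Flat.iff_lTensor_preserves_injective_linearMap]
  intro P P' _ _ _ _ f hf
  rw [injective_iff_map_eq_zero]
  intro z hz
  have h1 : (LinearMap.fst R A B).rTensor P z = 0 := by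
    apply (injective_iff_map_eq_zero _).mp
      (Module.Flat.lTensor_preserves_injective_linearMap (M := A) f hf)
    rw [← LinearMap.comp_apply, LinearMap.lTensor_comp_rTensor, ← LinearMap.rTensor_comp_lTensor,
      LinearMap.comp_apply, hz, map_zero]
  have h2 : (LinearMap.snd R A B).rTensor P z = 0 := by
    apply (injective_iff_map_eq_zero _).mp
      (Module.Flat.lTensor_preserves_injective_linearMap (M := B) f hf)
    rw [← LinearMap.comp_apply, LinearMap.lTensor_comp_rTensor, ← LinearMap.rTensor_comp_lTensor,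
      LinearMap.comp_apply, hz, map_zero]
  have h3 : (LinearMap.inl R A B).rTensor P ((LinearMap.fst R A B).rTensor P z) +
      (LinearMap.inr R A B).rTensor P ((LinearMap.snd R A B).rTensor P z) = z := by
    rw [← LinearMap.comp_apply, ← LinearMap.comp_apply, ← LinearMap.rTensor_comp,
      ← LinearMap.rTensor_comp, ← LinearMap.add_apply, ← LinearMap.rTensor_add]
    have : LinearMap.inl R A B ∘ₗ LinearMap.fst R A B + LinearMap.inr R A B ∘ₗ LinearMap.snd R A B
        = LinearMap.id := by
      ext <;> simp
    rw [this, LinearMap.rTensor_id]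
    rfl
  rw [← h3, h1, h2, map_zero, map_zero, add_zero]

theorem flat_prod_iff {R A B : Type u} [CommRing R] [AddCommGroup A] [AddCommGroup B] [Module R A]
    [Module R B] [Module.Flat R A] : Module.Flat R (A × B) ↔ Module.Flat R B := by
  constructor
  · intro h
    exact Module.Flat.of_retract (LinearMap.inr R A B) (LinearMap.snd R A B) (by ext x; simp)
  · intro h
    exact flat_prod

/-- The module `B × M` underlies a `B`-algebra. -/
theorem exists_algebra (B M : Type u) [CommRing B] [AddCommGroup M] [Module B M]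
    [Module.FinitePresentation B M] : ∃ (C : Type u) (_ : CommRing C) (_ : Algebra B C),
      Algebra.FinitePresentation B C ∧ Nonempty (C ≃ₗ[B] B × M) := by
  let : Module Bᵐᵒᵖ M := Module.compHom _ ((RingHom.id B).fromOpposite mul_comm)
  have : IsCentralScalar B M := ⟨fun _ _ => rfl⟩
  let e : TrivSqZeroExt B M ≃ₗ[B] B × M :=
    { toFun x := (x.fst, x.snd)
      invFun x := (x.1, x.2)
      map_add' _ _ := rfl
      map_smul' _ _ := rfl
      left_inv _ := rfl
      right_inv _ := rfl }
  have : Module.FinitePresentation B (TrivSqZeroExt B M) := .of_equiv e.symm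
  exact ⟨TrivSqZeroExt B M, inferInstance, inferInstance, inferInstance, ⟨e⟩⟩

theorem flat_tensor_iff (B M C D : Type u) [CommRing B] [AddCommGroup M] [Module B M] [CommRing D]
    [Algebra B D] [CommRing C] [Algebra B C] (e : C ≃ₗ[B] B × M) :
    Module.Flat D (D ⊗[B] C) ↔ Module.Flat D (D ⊗[B] M) := by
  let e1 : D ⊗[B] C ≃ₗ[D] (D ⊗[B] B) × (D ⊗[B] M) :=
    (TensorProduct.AlgebraTensorModule.congr (LinearEquiv.refl D D) e).trans
      (TensorProduct.prodRight B D D B M)
  rw [Module.Flat.equiv_iff e1]
  exact flat_prod_iff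

theorem affCond_flf_iff (A B : Type u) [CommRing A] [CommRing B] [Algebra A B] (M : Type u)
    [AddCommGroup M] [Module B M] [Module.FinitePresentation B M] (p : PrimeSpectrum A) :
    AffCond (fun (Y : Scheme.{u}) M => FlatMod.IsFinLocFree (X := Y) M) A B M p ↔
      Module.Flat (B ⊗[A] p.asIdeal.ResidueField) ((B ⊗[A] p.asIdeal.ResidueField) ⊗[B] M) := by
  rw [AffCond]
  constructor
  · intro h
    have := (Groth.Agent.PerfC.TildeFLF.finProj_of_isFinLocFree _ _ h).2
    exact Module.Flat.of_projective
  · intro h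
    have h1 : Module.FinitePresentation (B ⊗[A] p.asIdeal.ResidueField)
      ((B ⊗[A] p.asIdeal.ResidueField) ⊗[B] M) := inferInstance
    have h2 : Module.Projective (B ⊗[A] p.asIdeal.ResidueField)
      ((B ⊗[A] p.asIdeal.ResidueField) ⊗[B] M) := Module.Flat.projective_of_finitePresentation
    exact Groth.Agent.PerfC.TildeProj.isFinLocFree_tilde _ _

theorem mem_locus_flat_iff (A B C : Type u) [CommRing A] [CommRing B] [CommRing C]
    [i1 : Algebra A B] [i2 : Algebra B C] (p : PrimeSpectrum A) :
    p ∈ Groth.Agent.Ega43.Locus.locus @Flat (Spec.map (CommRingCat.ofHom (algebraMap B C)))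
        (Spec.map (CommRingCat.ofHom (algebraMap A B))) ↔
      Module.Flat (B ⊗[A] p.asIdeal.ResidueField) ((B ⊗[A] p.asIdeal.ResidueField) ⊗[B] C) := by
  obtain ⟨φ, hφ⟩ : ∃ φ : A →+* B, i1 = φ.toAlgebra :=
    ⟨algebraMap A B, Algebra.algebra_ext _ _ fun _ => rfl⟩
  obtain ⟨ψ, hψ⟩ : ∃ ψ : B →+* C, i2 = ψ.toAlgebra :=
    ⟨algebraMap B C, Algebra.algebra_ext _ _ fun _ => rfl⟩
  subst hφ hψ
  exact Groth.Agent.Ega43.LocusFlat.mem_locus_flat_Spec_iff (CommRingCat.ofHom φ)
    (CommRingCat.ofHom ψ) p

theorem isConstructible_affCond_flf (A B : Type u) [CommRing A] [CommRing B] [Algebra A B]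
    [Algebra.FinitePresentation A B] (M : Type u)
    [AddCommGroup M] [Module B M] [Module.FinitePresentation B M] :
    IsConstructible {p : PrimeSpectrum A |
      AffCond (fun (Y : Scheme.{u}) M => FlatMod.IsFinLocFree (X := Y) M) A B M p} := by
  obtain ⟨C, _, _, hC, ⟨e⟩⟩ := exists_algebra B M
  have h1 := Groth.Agent.Ega43.LocusFlat.isConstructible_locus_flat_Spec
    (CommRingCat.ofHom (algebraMap A B)) (CommRingCat.ofHom (algebraMap B C))
    (RingHom.finitePresentation_algebraMap.mpr inferInstance)
    (RingHom.finitePresentation_algebraMap.mpr hC)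
  refine cast (congrArg (IsConstructible (X := PrimeSpectrum A)) (Set.ext fun p => ?_)) h1
  rw [Set.mem_ofPred_eq, affCond_flf_iff, ← flat_tensor_iff B M C _ e]
  exact mem_locus_flat_iff A B C p

theorem isLocallyConstructible_flf {X S : Scheme.{u}} (f : X ⟶ S)
    [LocallyOfFinitePresentation f] [QuasiCompact f] [QuasiSeparated f]
    (F : X.Modules) (hF : CohB1.IsFP F) :
    IsLocallyConstructible
      {s : S | FlatMod.IsFinLocFree ((Scheme.Modules.pullback (f.fiberι s)).obj F)} :=
  locProp_flf.isLocallyConstructible (fun A B _ _ _ _ M _ _ _ => isConstructible_affCond_flf A B M)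
    f (FP.mk' f) F hF

end K118.FibFLF
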