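import Groth.Agent.FlatA.GenericFree2
import Mathlib.RingTheory.Flat.Equalizer
import Mathlib.RingTheory.Flat.FaithfullyFlat.Basic
import Mathlib.RingTheory.Flat.Localization
import Mathlib.RingTheory.IsTensorProduct
import Mathlib.RingTheory.Noetherian.Basic
import Mathlib.RingTheory.FiniteType

/-!
# Fibrewise injectivity: base change and generic constancy
-/

set_option autoImplicit false
universe u v v' w
open TensorProduct

namespace K118.FibInj

section BaseChange

variable {R : Type*} (R' K : Type*) [CommRing R] [CommRing R'] [Algebra R R']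
  [CommRing K] [Algebra R K] [Algebra R' K] [IsScalarTower R R' K]
  {M M' : Type*} [AddCommGroup M] [Module R M] [AddCommGroup M'] [Module R M']

/-- Associativity of base change for linear maps. -/
theorem baseChange_baseChange_comp (w : M →ₗ[R] M') (x : K ⊗[R'] (R' ⊗[R] M)) :
    AlgebraTensorModule.cancelBaseChange R R' K K M' (((w.baseChange R').baseChange K) x) =
      w.baseChange K (AlgebraTensorModule.cancelBaseChange R R' K K M x) := by
  induction x with
  | zero => simp
  | add x y hx hy => simp only [map_add, hx, hy]
  | tmul a x =>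
    induction x with
    | zero => simp
    | add x y hx hy => simp only [tmul_add, map_add, hx, hy]
    | tmul r m => simp

theorem injective_congr {A B C D : Type*} (f : A → B) (g : C → D) (e : A ≃ C) (e' : B ≃ D)
    (h : ∀ x, e' (f x) = g (e x)) : Function.Injective f ↔ Function.Injective g := by
  have h1 : g ∘ e = e' ∘ f := funext fun x => (h x).symm
  rw [← e.injective_comp g, h1, e'.comp_injective f]

theorem baseChange_injective_tower_iff (w : M →ₗ[R] M') :
    Function.Injective ((w.baseChange R').baseChange K) ↔ Function.Injective (w.baseChange K) :=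
  injective_congr _ _ (AlgebraTensorModule.cancelBaseChange R R' K K M).toEquiv
    (AlgebraTensorModule.cancelBaseChange R R' K K M').toEquiv
    (baseChange_baseChange_comp R' K w)

theorem baseChange_injective_iff_of_faithfullyFlat [Module.FaithfullyFlat R' K]
    (w : M →ₗ[R] M') :
    Function.Injective (w.baseChange K) ↔ Function.Injective (w.baseChange R') := by
  rw [← baseChange_injective_tower_iff R' K w,
    ← Module.FaithfullyFlat.lTensor_injective_iff_injective R' K (w.baseChange R')]
  rfl

/-- Comparison with the base change along an algebra. -/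
theorem injective_pushout_iff {R S A B : Type*} [CommRing R] [CommRing S] [CommRing A] [CommRing B]
    [Algebra R S] [Algebra R A] [Algebra S B] [Algebra A B] [Algebra R B]
    [IsScalarTower R S B] [IsScalarTower R A B] [Algebra.IsPushout R S A B]
    {M M' : Type*} [AddCommGroup M] [Module R M] [Module A M] [IsScalarTower R A M]
    [AddCommGroup M'] [Module R M'] [Module A M'] [IsScalarTower R A M']
    (w : M →ₗ[A] M') (K : Type*) [CommRing K] [Algebra R K] [Algebra S K] [IsScalarTower R S K] :
    Function.Injective (((w.baseChange B).restrictScalars S).baseChange K) ↔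
      Function.Injective ((w.restrictScalars R).baseChange K) := by
  rw [← baseChange_injective_tower_iff S K (w.restrictScalars R)]
  let e := Algebra.IsPushout.cancelBaseChange R S A B M
  let e' := Algebra.IsPushout.cancelBaseChange R S A B M'
  have key : ∀ x, e' (w.baseChange B x) = (w.restrictScalars R).baseChange S (e x) := by
    intro x
    obtain ⟨x, rfl⟩ := e.symm.surjective x
    rw [LinearEquiv.apply_symm_apply]
    induction x with
    | zero => simp
    | add x y hx hy => simp only [map_add, hx, hy]
    | tmul s m =>
      have h1 : e.symm (s ⊗ₜ m) = algebraMap S B s ⊗ₜ m :=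
        Algebra.IsPushout.cancelBaseChange_symm_tmul R S A B M s m
      have h2 : e'.symm (s ⊗ₜ w m) = algebraMap S B s ⊗ₜ w m :=
        Algebra.IsPushout.cancelBaseChange_symm_tmul R S A B M' s (w m)
      rw [h1, LinearMap.baseChange_tmul, ← h2, LinearEquiv.apply_symm_apply]
      rfl
  refine injective_congr _ _ (AlgebraTensorModule.congr (LinearEquiv.refl K K) e).toEquiv
    (AlgebraTensorModule.congr (LinearEquiv.refl K K) e').toEquiv fun x => ?_
  change AlgebraTensorModule.congr (LinearEquiv.refl K K) e' _ =
    ((w.restrictScalars R).baseChange S).baseChange K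
      (AlgebraTensorModule.congr (LinearEquiv.refl K K) e x)
  induction x with
  | zero => simp
  | add x y hx hy => simp only [map_add, hx, hy]
  | tmul a x =>
    change a ⊗ₜ[S] e' (w.baseChange B x) = a ⊗ₜ[S] ((w.restrictScalars R).baseChange S (e x))
    rw [key]

end BaseChange

section Flat

/-- If the image and the cokernel are flat, the kernel of the base change is the base change of the
kernel; the injectivity of a base change is governed by the vanishing of the kernel. -/
theorem injective_comp_lTensor_iff {R N M I M' Q : Type*} [CommRing R]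
    [AddCommGroup N] [Module R N] [AddCommGroup M] [Module R M] [AddCommGroup I] [Module R I]
    [AddCommGroup M'] [Module R M'] [AddCommGroup Q] [Module R Q]
    (i : N →ₗ[R] M) (π : M →ₗ[R] I) (j : I →ₗ[R] M') (q : M' →ₗ[R] Q)
    (hi : Function.Injective i) (hπ : Function.Surjective π) (hj : Function.Injective j)
    (hq : Function.Surjective q) (h1 : Function.Exact i π) (h2 : Function.Exact j q)
    [Module.Flat R I] [Module.Flat R Q] (K : Type*) [CommRing K] [Algebra R K] :
    Function.Injective ((j ∘ₗ π).lTensor K) ↔ Subsingleton (K ⊗[R] N) := by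
  have hi' : Function.Injective (i.lTensor K) :=
    LinearMap.lTensor_injective_of_exact_of_flat π hπ i hi h1 K
  have hj' : Function.Injective (j.lTensor K) :=
    LinearMap.lTensor_injective_of_exact_of_flat q hq j hj h2 K
  have h4 : Function.Exact (i.lTensor K) (π.lTensor K) := lTensor_exact K h1 hπ
  have h3 : Function.Exact (i.lTensor K) ((j ∘ₗ π).lTensor K) := by
    intro x
    rw [← h4 x, LinearMap.lTensor_comp, LinearMap.comp_apply]
    exact ⟨fun h => hj' (h.trans (map_zero _).symm), fun h => by rw [h, map_zero]⟩
  constructor
  · intro h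
    refine ⟨fun a b => hi' (h ?_)⟩
    rw [h3.apply_apply_eq_zero, h3.apply_apply_eq_zero]
  · intro h
    rw [injective_iff_map_eq_zero]
    intro x hx
    obtain ⟨y, rfl⟩ := (h3 x).mp hx
    rw [Subsingleton.elim y 0, map_zero]

theorem injective_baseChange_iff_subsingleton {R : Type*} [CommRing R] {M M' : Type*}
    [AddCommGroup M] [Module R M] [AddCommGroup M'] [Module R M'] (w : M →ₗ[R] M')
    (R' : Type*) [CommRing R'] [Algebra R R'] [Module.Flat R R']
    [Module.Flat R' (R' ⊗[R] LinearMap.range w)]
    [Module.Flat R' (R' ⊗[R] (M' ⧸ LinearMap.range w))]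
    (K : Type*) [CommRing K] [Algebra R K] [Algebra R' K] [IsScalarTower R R' K] :
    Function.Injective (w.baseChange K) ↔
      Subsingleton (K ⊗[R'] (R' ⊗[R] LinearMap.ker w)) := by
  have hex : Function.Exact (LinearMap.ker w).subtype w.rangeRestrict := by
    intro x
    rw [Submodule.coe_subtype, Subtype.range_coe]
    change _ ↔ x ∈ LinearMap.ker w
    rw [LinearMap.mem_ker, ← Submodule.coe_eq_zero]
    rfl
  rw [← baseChange_injective_tower_iff R' K w]
  have h := injective_comp_lTensor_iff ((LinearMap.ker w).subtype.baseChange R')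
    (w.rangeRestrict.baseChange R') ((LinearMap.range w).subtype.baseChange R')
    ((LinearMap.range w).mkQ.baseChange R')
    (Module.Flat.lTensor_preserves_injective_linearMap _ (LinearMap.ker w).injective_subtype)
    (LinearMap.lTensor_surjective R' w.surjective_rangeRestrict)
    (Module.Flat.lTensor_preserves_injective_linearMap _ (LinearMap.range w).injective_subtype)
    (LinearMap.lTensor_surjective R' (LinearMap.range w).mkQ_surjective)
    (Module.Flat.lTensor_exact R' hex)
    (Module.Flat.lTensor_exact R' (LinearMap.exact_subtype_mkQ _)) K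
  rw [← h]
  have hw : w.baseChange R' = ((LinearMap.range w).subtype.baseChange R') ∘ₗ
      (w.rangeRestrict.baseChange R') := by
    rw [← LinearMap.baseChange_comp]
    rfl
  rw [hw]
  rfl

theorem subsingleton_tensor_iff_of_free {R K N : Type*} [CommRing R] [CommRing K] [Nontrivial K]
    [Algebra R K] [AddCommGroup N] [Module R N] [Module.Free R N] :
    Subsingleton (K ⊗[R] N) ↔ Subsingleton N := by
  constructor
  · intro h
    by_contra hN
    rw [not_subsingleton_iff_nontrivial] at hN
    have : Nontrivial R := (algebraMap R K).domain_nontrivial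
    have hne := (Module.Free.chooseBasis R N).index_nonempty
    obtain ⟨i⟩ := hne
    have b := (Module.Free.chooseBasis R N).baseChange K
    exact b.ne_zero i (Subsingleton.elim _ _)
  · intro h
    exact ⟨fun a b => by
      have h1 : ∀ x : K ⊗[R] N, x = 0 := by
        intro x
        induction x with
        | zero => rfl
        | add x y hx hy => rw [hx, hy, add_zero]
        | tmul a n => rw [Subsingleton.elim n 0, tmul_zero]
      rw [h1 a, h1 b]⟩

/-- Generic constancy of fibrewise injectivity. -/
theorem exists_forall_injective_iff {R : Type u} [CommRing R] [IsDomain R] [IsNoetherianRing R]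
    {A : Type w} [CommRing A] [Algebra R A] [Algebra.FiniteType R A]
    {M : Type v} [AddCommGroup M] [Module A M] [Module R M] [IsScalarTower R A M] [Module.Finite A M]
    {M' : Type v'} [AddCommGroup M'] [Module A M'] [Module R M'] [IsScalarTower R A M']
    [Module.Finite A M'] (w : M →ₗ[A] M') :
    ∃ (f : R) (P : Prop), f ≠ 0 ∧ ∀ (K : Type u) [Field K] [Algebra R K], algebraMap R K f ≠ 0 →
      (Function.Injective ((w.restrictScalars R).baseChange K) ↔ P) := by
  have : IsNoetherianRing A := Algebra.FiniteType.isNoetherianRing R A
  obtain ⟨f₁, hf₁, h₁⟩ := Groth.Agent.FlatA.GenericFree.genFree_of_finiteType (R := R) A (LinearMap.ker w)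
  obtain ⟨f₂, hf₂, h₂⟩ := Groth.Agent.FlatA.GenericFree.genFree_of_finiteType (R := R) A (LinearMap.range w)
  obtain ⟨f₃, hf₃, h₃⟩ := Groth.Agent.FlatA.GenericFree.genFree_of_finiteType (R := R) A (M' ⧸ LinearMap.range w)
  let f := f₁ * f₂ * f₃
  have hf : f ≠ 0 := mul_ne_zero (mul_ne_zero hf₁ hf₂) hf₃
  let R' := Localization.Away f
  have e₁ := (h₁.of_dvd (g := f) ⟨f₂ * f₃, by simp only [f]; ring⟩).free_tensor R'
  have e₂ := (h₂.of_dvd (g := f) ⟨f₁ * f₃, by simp only [f]; ring⟩).free_tensor R'
  have e₃ := (h₃.of_dvd (g := f) ⟨f₁ * f₂, by simp only [f]; ring⟩).free_tensor R'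
  have hR' : Module.Flat R R' := IsLocalization.flat R' (Submonoid.powers f)
  refine ⟨f, Subsingleton (R' ⊗[R] LinearMap.ker w), hf, fun K _ _ hK => ?_⟩
  let φ : R' →+* K := IsLocalization.Away.lift f (isUnit_iff_ne_zero.mpr hK)
  let _ : Algebra R' K := φ.toAlgebra
  have : IsScalarTower R R' K := IsScalarTower.of_algebraMap_eq fun r =>
    (IsLocalization.Away.lift_eq f (isUnit_iff_ne_zero.mpr hK) r).symm
  have i₂ : Module.Flat R' (R' ⊗[R] LinearMap.range (w.restrictScalars R)) := by
    have := e₂
    exact inferInstanceAs (Module.Flat R' (R' ⊗[R] LinearMap.range w))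
  have i₃ : Module.Flat R' (R' ⊗[R] (M' ⧸ LinearMap.range (w.restrictScalars R))) := by
    have := e₃
    exact inferInstanceAs (Module.Flat R' (R' ⊗[R] (M' ⧸ LinearMap.range w)))
  have i₁ : Module.Free R' (R' ⊗[R] LinearMap.ker (w.restrictScalars R)) := e₁
  rw [injective_baseChange_iff_subsingleton (w.restrictScalars R) R' K]
  exact subsingleton_tensor_iff_of_free

end Flat

end K118.FibInj
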