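import Groth.Agent.Cons9.K118.FibInj
import Groth.Agent.Ega43.ConsCrit
import Groth.Agent.Ega43.NoethRed
import Groth.Agent.Flat2A.FibreInjModel
import Groth.Agent.Flat2D.NoethConstr
import Groth.Agent.Ega4fib.H143.ConstrAlg
import Mathlib.RingTheory.Spectrum.Prime.Chevalley
import Mathlib.RingTheory.Spectrum.Prime.ConstructibleSet

/-!
# The set of points of the base over which a homomorphism of finitely presented modules is
fibrewise injective is constructible
-/

set_option autoImplicit false
universe u v v' w
open TensorProduct Topology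

namespace K118.FibInjConstr

open K118.FibInj

attribute [local instance] Algebra.TensorProduct.rightAlgebra in
theorem isConstructible_of_noeth {R : Type u} [CommRing R] [IsNoetherianRing R]
    {A : Type w} [CommRing A] [Algebra R A] [Algebra.FiniteType R A]
    {M : Type v} [AddCommGroup M] [Module A M] [Module R M] [IsScalarTower R A M] [Module.Finite A M]
    {M' : Type v'} [AddCommGroup M'] [Module A M'] [Module R M'] [IsScalarTower R A M']
    [Module.Finite A M'] (w : M →ₗ[A] M') :
    IsConstructible {p : PrimeSpectrum R |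
      Function.Injective ((w.restrictScalars R).baseChange p.asIdeal.ResidueField)} := by
  refine Groth.Agent.Ega43.ConsCrit.isConstructible_of_forall_exists _ fun q => ?_
  let R' := R ⧸ q.asIdeal
  let B := R' ⊗[R] A
  obtain ⟨f', P, hf', H⟩ := exists_forall_injective_iff (R := R') (A := B)
    (M := B ⊗[A] M) (M' := B ⊗[A] M') (w.baseChange B)
  obtain ⟨f, rfl⟩ := Ideal.Quotient.mk_surjective f'
  have hf : f ∉ q.asIdeal := fun h => hf' (Ideal.Quotient.eq_zero_iff_mem.mpr h)
  let V : Set (PrimeSpectrum R) := PrimeSpectrum.zeroLocus (q.asIdeal : Set R) ∩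
    PrimeSpectrum.basicOpen f
  have hV : IsConstructible V := by
    refine IsConstructible.inter ?_ ?_
    · rw [← compl_compl (PrimeSpectrum.zeroLocus (q.asIdeal : Set R))]
      exact (Groth.Agent.Flat2D.NoethConstr.isConstructible_of_isOpen
        (PrimeSpectrum.isClosed_zeroLocus _).isOpen_compl).compl
    · exact Groth.Agent.Flat2D.NoethConstr.isConstructible_of_isOpen
        (PrimeSpectrum.basicOpen f).isOpen
  have key : ∀ p ∈ V, (Function.Injective ((w.restrictScalars R).baseChange
      p.asIdeal.ResidueField) ↔ P) := by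
    rintro p ⟨hp1, hp2⟩
    let φ : R' →+* p.asIdeal.ResidueField := Ideal.Quotient.lift q.asIdeal
      (algebraMap R p.asIdeal.ResidueField) fun a ha => by
        rw [Ideal.algebraMap_residueField_eq_zero]
        exact hp1 ha
    let _ : Algebra R' p.asIdeal.ResidueField := φ.toAlgebra
    have : IsScalarTower R R' p.asIdeal.ResidueField := IsScalarTower.of_algebraMap_eq fun r => rfl
    rw [← H p.asIdeal.ResidueField ?_]
    · exact (injective_pushout_iff (S := R') (B := B) w p.asIdeal.ResidueField).symm
    · change algebraMap R p.asIdeal.ResidueField f ≠ 0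
      rw [Ne, Ideal.algebraMap_residueField_eq_zero]
      exact hp2
  refine ⟨V, hV, ⟨?_, ?_⟩, ?_⟩
  · exact le_refl q.asIdeal
  · exact hf
  · by_cases hP : P
    · convert hV using 1
      ext p
      exact ⟨fun h => h.1, fun h => ⟨h, (key p h).mpr hP⟩⟩
    · convert (IsConstructible.empty : IsConstructible (∅ : Set (PrimeSpectrum R))) using 1
      ext p
      exact ⟨fun h => hP ((key p h.1).mp h.2), fun h => h.elim⟩

theorem injective_residueField_iff {R R' : Type*} [CommRing R] [CommRing R'] [Algebra R R']
    {M M' : Type*} [AddCommGroup M] [Module R M] [AddCommGroup M'] [Module R M'] (w : M →ₗ[R] M')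
    (p' : PrimeSpectrum R') :
    Function.Injective ((w.baseChange R').baseChange p'.asIdeal.ResidueField) ↔
      Function.Injective (w.baseChange
        (PrimeSpectrum.comap (algebraMap R R') p').asIdeal.ResidueField) := by
  rw [baseChange_injective_tower_iff R' p'.asIdeal.ResidueField w]
  let p := PrimeSpectrum.comap (algebraMap R R') p'
  let φ : p.asIdeal.ResidueField →+* p'.asIdeal.ResidueField :=
    Ideal.ResidueField.map p.asIdeal p'.asIdeal (algebraMap R R') rfl
  let _ : Algebra p.asIdeal.ResidueField p'.asIdeal.ResidueField := φ.toAlgebra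
  have : IsScalarTower R p.asIdeal.ResidueField p'.asIdeal.ResidueField :=
    IsScalarTower.of_algebraMap_eq fun r => by
      change _ = φ (algebraMap R _ r)
      rw [IsScalarTower.algebraMap_apply R R' p'.asIdeal.ResidueField]
      exact (Ideal.ResidueField.map_algebraMap _ _ _ _ _).symm
  exact baseChange_injective_iff_of_faithfullyFlat p.asIdeal.ResidueField _ w

theorem isConstructible_setOf_injective {R : Type u} [CommRing R]
    {B : Type w} [CommRing B] [Algebra R B] [Algebra.FinitePresentation R B]
    {M : Type v} [AddCommGroup M] [Module B M] [Module R M] [IsScalarTower R B M]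
    [Module.FinitePresentation B M]
    {M' : Type v'} [AddCommGroup M'] [Module B M'] [Module R M'] [IsScalarTower R B M']
    [Module.FinitePresentation B M'] (w : M →ₗ[B] M') :
    IsConstructible {p : PrimeSpectrum R |
      Function.Injective ((w.restrictScalars R).baseChange p.asIdeal.ResidueField)} := by
  obtain ⟨n, s, hs⟩ := Groth.Agent.Flat2A.FibreInjModel.exists_model_map R B M M' w
  obtain ⟨A₀, hA₀n, hA₀⟩ : ∃ A₀ : Subalgebra ℤ R, IsNoetherianRing A₀ ∧ (s : Set R) ⊆ A₀ := by
    refine ⟨Algebra.adjoin ℤ (s : Set R), ?_, Algebra.subset_adjoin⟩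
    have : Algebra.FiniteType ℤ (Algebra.adjoin ℤ (s : Set R)) :=
      (Algebra.adjoin ℤ (s : Set R)).fg_iff_finiteType.mp ⟨s, rfl⟩
    exact Algebra.FiniteType.isNoetherianRing ℤ _
  obtain ⟨M₀, _, _, _, _, M₀', _, _, _, _, u₀, e, e', hM, hM', he⟩ := hs A₀ hA₀
  have h1 := isConstructible_of_noeth (R := A₀) u₀
  have h2 := Groth.Agent.Ega4fib.H143.ConstrAlg.isConstructible_preimage_comap (algebraMap A₀ R) h1
  convert h2 using 1
  ext p
  change Function.Injective _ ↔ Function.Injective ((u₀.restrictScalars A₀).baseChange
    (PrimeSpectrum.comap (algebraMap A₀ R) p).asIdeal.ResidueField)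
  rw [← injective_residueField_iff (R' := R) (u₀.restrictScalars A₀) p]
  symm
  refine injective_congr _ _ (AlgebraTensorModule.congr (LinearEquiv.refl p.asIdeal.ResidueField
      p.asIdeal.ResidueField) e).toEquiv
    (AlgebraTensorModule.congr (LinearEquiv.refl p.asIdeal.ResidueField
      p.asIdeal.ResidueField) e').toEquiv fun x => ?_
  change AlgebraTensorModule.congr (LinearEquiv.refl p.asIdeal.ResidueField
      p.asIdeal.ResidueField) e' _ =
    (w.restrictScalars R).baseChange p.asIdeal.ResidueField
      (AlgebraTensorModule.congr (LinearEquiv.refl p.asIdeal.ResidueField p.asIdeal.ResidueField) e x)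
  induction x with
  | zero => simp
  | add x y hx hy => simp only [map_add, hx, hy]
  | tmul a x =>
    change a ⊗ₜ[R] e' ((u₀.restrictScalars A₀).baseChange R x) = a ⊗ₜ[R] (w (e x))
    rw [he]

end K118.FibInjConstr
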