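import Mathlib.Topology.Constructible
import Mathlib.Topology.Sober

/-!
# Constructible sets near a generic point
-/

set_option autoImplicit false
open Topology TopologicalSpace

namespace K118.GenCons

theorem dichotomy {X : Type*} [TopologicalSpace X] {η : X} (hη : IsGenericPoint η Set.univ)
    {E : Set X} (hE : IsConstructible E) :
    (∃ U : Set X, IsOpen U ∧ η ∈ U ∧ U ⊆ E) ∨ (∃ U : Set X, IsOpen U ∧ η ∈ U ∧ U ⊆ Eᶜ) := by
  induction hE using BooleanSubalgebra.closure_bot_sup_induction with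
  | mem s hs =>
    by_cases h : η ∈ s
    · exact .inl ⟨s, hs.1, h, subset_rfl⟩
    · refine .inr ⟨Set.univ, isOpen_univ, trivial, ?_⟩
      intro x _ hx
      exact h ((hη.specializes (Set.mem_univ x)).mem_open hs.1 hx)
  | bot => exact .inr ⟨Set.univ, isOpen_univ, trivial, fun x _ hx => hx⟩
  | sup s hs t ht hs' ht' =>
    rcases hs' with ⟨U, hU, hηU, h⟩ | ⟨U, hU, hηU, h⟩
    · exact .inl ⟨U, hU, hηU, h.trans Set.subset_union_left⟩
    · rcases ht' with ⟨V, hV, hηV, h'⟩ | ⟨V, hV, hηV, h'⟩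
      · exact .inl ⟨V, hV, hηV, h'.trans Set.subset_union_right⟩
      · refine .inr ⟨U ∩ V, hU.inter hV, ⟨hηU, hηV⟩, ?_⟩
        rintro x ⟨hx, hx'⟩ (h1 | h1)
        · exact h hx h1
        · exact h' hx' h1
  | compl s hs hs' =>
    rcases hs' with ⟨U, hU, hηU, h⟩ | ⟨U, hU, hηU, h⟩
    · exact .inr ⟨U, hU, hηU, fun x hx hx' => hx' (h hx)⟩
    · exact .inl ⟨U, hU, hηU, h⟩

theorem isGenericPoint_of_mem_open {X : Type*} [TopologicalSpace X] {η : X}
    (hη : IsGenericPoint η Set.univ) {U : Set X} (hηU : η ∈ U) :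
    IsGenericPoint (⟨η, hηU⟩ : U) Set.univ := by
  rw [isGenericPoint_iff_specializes]
  intro y
  refine ⟨fun _ => trivial, fun _ => ?_⟩
  exact IsInducing.subtypeVal.specializes_iff.mp (hη.specializes (Set.mem_univ y.1))

theorem exists_open_subset {X : Type*} [TopologicalSpace X] {η : X}
    (hη : IsGenericPoint η Set.univ) {E : Set X} (hE : IsLocallyConstructible E) (h : η ∈ E) :
    ∃ U : Set X, IsOpen U ∧ η ∈ U ∧ U ⊆ E := by
  obtain ⟨V, hV, hVo, hVE⟩ := hE η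
  have hηV := mem_of_mem_nhds hV
  rcases dichotomy (isGenericPoint_of_mem_open hη hηV) hVE with ⟨U, hU, hηU, hUE⟩ | ⟨U, hU, hηU, hUE⟩
  · refine ⟨Subtype.val '' U, hVo.isOpenMap_subtype_val U hU, ⟨_, hηU, rfl⟩, ?_⟩
    rintro _ ⟨x, hx, rfl⟩
    exact hUE hx
  · exact (hUE hηU h).elim

theorem exists_open_disjoint {X : Type*} [TopologicalSpace X] {η : X}
    (hη : IsGenericPoint η Set.univ) {E : Set X} (hE : IsLocallyConstructible E) (h : η ∉ E) :
    ∃ U : Set X, IsOpen U ∧ η ∈ U ∧ U ⊆ Eᶜ := by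
  obtain ⟨V, hV, hVo, hVE⟩ := hE η
  have hηV := mem_of_mem_nhds hV
  rcases dichotomy (isGenericPoint_of_mem_open hη hηV) hVE with ⟨U, hU, hηU, hUE⟩ | ⟨U, hU, hηU, hUE⟩
  · exact (h (hUE hηU)).elim
  · refine ⟨Subtype.val '' U, hVo.isOpenMap_subtype_val U hU, ⟨_, hηU, rfl⟩, ?_⟩
    rintro _ ⟨x, hx, rfl⟩
    exact hUE hx

end K118.GenCons
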