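import Groth.Agent.Sga3C.GeomRedPerf
import Groth.Agent.Fdesc.GeomAlgClosed
import Mathlib.AlgebraicGeometry.Geometrically.Integral
import Mathlib.RingTheory.TensorProduct.Quotient
import Mathlib.RingTheory.TensorProduct.MvPolynomial
import Mathlib.RingTheory.Polynomial.UniqueFactorization
import Mathlib.Algebra.MvPolynomial.Nilpotent

/-!
# Geometrically irreducible polynomials
-/

set_option autoImplicit false
universe u
open CategoryTheory AlgebraicGeometry CategoryTheory.Limits TensorProduct

namespace K118.GeomIrredPoly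

variable {k : Type u} [Field k] {n : ℕ}

/-- Base change of a hypersurface. -/
noncomputable def bcEquiv (K : Type u) [Field K] [Algebra k K] (F : MvPolynomial (Fin n) k) :
    K ⊗[k] (MvPolynomial (Fin n) k ⧸ Ideal.span ({F} : Set (MvPolynomial (Fin n) k))) ≃+*
      MvPolynomial (Fin n) K ⧸ Ideal.span
        ({MvPolynomial.map (algebraMap k K) F} : Set (MvPolynomial (Fin n) K)) :=
  (Algebra.TensorProduct.tensorQuotientEquiv (R := k) K (MvPolynomial (Fin n) k) K
      (Ideal.span ({F} : Set (MvPolynomial (Fin n) k)))).toRingEquiv.trans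
    (Ideal.quotientEquiv _ _ (MvPolynomial.algebraTensorAlgEquiv k K).toRingEquiv (by
      rw [Ideal.map_span, Ideal.map_span, Set.image_singleton, Set.image_singleton]
      congr 2
      change _ = MvPolynomial.algebraTensorAlgEquiv k K ((1 : K) ⊗ₜ[k] F)
      rw [MvPolynomial.algebraTensorAlgEquiv_tmul, one_smul]))

theorem irreducible_iff_isDomain {F : MvPolynomial (Fin n) k} (hF : F ≠ 0) :
    Irreducible F ↔
      IsDomain (MvPolynomial (Fin n) k ⧸ Ideal.span ({F} : Set (MvPolynomial (Fin n) k))) := by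
  rw [Ideal.Quotient.isDomain_iff_prime, Ideal.span_singleton_prime hF,
    UniqueFactorizationMonoid.irreducible_iff_prime]

theorem map_ne_zero' (K : Type u) [Field K] [Algebra k K] {F : MvPolynomial (Fin n) k}
    (hF : F ≠ 0) : MvPolynomial.map (algebraMap k K) F ≠ 0 := by
  intro h
  exact hF (MvPolynomial.map_injective _ (algebraMap k K).injective (h.trans (map_zero _).symm))

theorem isDomain_of_ringEquiv {A B : Type*} [Semiring A] [Semiring B] (e : A ≃+* B) [IsDomain B] :
    IsDomain A :=
  MulEquiv.isDomain B e.toMulEquiv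

theorem isIntegral_of_iso {X Y : Scheme.{u}} (e : X ≅ Y) (h : IsIntegral X) : IsIntegral Y := by
  have : Nonempty Y := ⟨e.hom (Nonempty.some inferInstance)⟩
  exact isIntegral_of_isOpenImmersion e.inv

theorem isClosedUnderIsomorphisms_isIntegral :
    ObjectProperty.IsClosedUnderIsomorphisms (C := Scheme.{u}) (IsIntegral ·) :=
  ⟨fun e h => isIntegral_of_iso e h⟩

theorem irreducible_map_iff (K : Type u) [Field K] [Algebra k K] {F : MvPolynomial (Fin n) k}
    (hF : F ≠ 0) :
    Irreducible (MvPolynomial.map (algebraMap k K) F) ↔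
      IsIntegral (pullback (Spec.map (CommRingCat.ofHom
        (algebraMap k (MvPolynomial (Fin n) k ⧸ Ideal.span ({F} : Set (MvPolynomial (Fin n) k))))))
        (Spec.map (CommRingCat.ofHom (algebraMap k K)))) := by
  have h0 : IsDomain (MvPolynomial (Fin n) K ⧸ Ideal.span
        ({MvPolynomial.map (algebraMap k K) F} : Set (MvPolynomial (Fin n) K))) ↔
      IsDomain (K ⊗[k] (MvPolynomial (Fin n) k ⧸ Ideal.span ({F} : Set (MvPolynomial (Fin n) k)))) :=
    ⟨fun _ => isDomain_of_ringEquiv (bcEquiv K F), fun _ => isDomain_of_ringEquiv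
      (B := K ⊗[k] (MvPolynomial (Fin n) k ⧸ Ideal.span ({F} : Set (MvPolynomial (Fin n) k))))
      (bcEquiv K F).symm⟩
  rw [irreducible_iff_isDomain (map_ne_zero' K hF), h0]
  let e := pullbackSpecIso k
    (MvPolynomial (Fin n) k ⧸ Ideal.span ({F} : Set (MvPolynomial (Fin n) k))) K
  have h1 : IsIntegral (pullback (Spec.map (CommRingCat.ofHom
        (algebraMap k (MvPolynomial (Fin n) k ⧸ Ideal.span ({F} : Set (MvPolynomial (Fin n) k))))))
        (Spec.map (CommRingCat.ofHom (algebraMap k K)))) ↔
      IsDomain ((MvPolynomial (Fin n) k ⧸ Ideal.span ({F} : Set (MvPolynomial (Fin n) k)))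
        ⊗[k] K) := by
    refine Iff.trans ?_ (affine_isIntegral_iff (.of
      ((MvPolynomial (Fin n) k ⧸ Ideal.span ({F} : Set (MvPolynomial (Fin n) k))) ⊗[k] K)))
    exact ⟨fun h => isIntegral_of_iso e h, fun h => isIntegral_of_iso e.symm h⟩
  rw [h1]
  let e' := (Algebra.TensorProduct.comm k K
    (MvPolynomial (Fin n) k ⧸ Ideal.span ({F} : Set (MvPolynomial (Fin n) k)))).toRingEquiv
  exact ⟨fun _ => isDomain_of_ringEquiv e'.symm, fun _ => isDomain_of_ringEquiv e'⟩

theorem geometricallyIntegral_iff {F : MvPolynomial (Fin n) k} (hF : F ≠ 0) :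
    GeometricallyIntegral (Spec.map (CommRingCat.ofHom
        (algebraMap k (MvPolynomial (Fin n) k ⧸ Ideal.span ({F} : Set (MvPolynomial (Fin n) k)))))) ↔
      ∀ (K : Type u) [Field K] [Algebra k K], Irreducible (MvPolynomial.map (algebraMap k K) F) := by
  have := isClosedUnderIsomorphisms_isIntegral.{u}
  rw [AlgebraicGeometry.geometricallyIntegral_iff, geometrically_iff_of_commRing_of_isClosedUnderIsomorphisms]
  exact forall_congr' fun K => forall_congr' fun _ => forall_congr' fun _ =>
    (irreducible_map_iff K hF).symm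

theorem irreducible_map_of_isAlgClosed [IsAlgClosed k] {F : MvPolynomial (Fin n) k}
    (hF : Irreducible F) (K : Type u) [Field K] [Algebra k K] :
    Irreducible (MvPolynomial.map (algebraMap k K) F) := by
  have hd := (irreducible_iff_isDomain hF.ne_zero).mp hF
  have hi : IsIntegral (Spec (CommRingCat.of
      (MvPolynomial (Fin n) k ⧸ Ideal.span ({F} : Set (MvPolynomial (Fin n) k))))) :=
    (affine_isIntegral_iff (.of _)).mpr hd
  let f := Spec.map (CommRingCat.ofHom
        (algebraMap k (MvPolynomial (Fin n) k ⧸ Ideal.span ({F} : Set (MvPolynomial (Fin n) k)))))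
  have : GeometricallyReduced f := Groth.Agent.Sga3C.GeomRedPerf.geometricallyReduced_of_isReduced f
  have : GeometricallyIrreducible f :=
    Groth.Agent.Fdesc.GeomAlgClosed.geometricallyIrreducible_of_irreducibleSpace f
  exact (geometricallyIntegral_iff hF.ne_zero).mp
    (GeometricallyIntegral.of_geometricallyReduced_of_geometricallyIrreducible f) K

theorem isUnit_of_map {K : Type u} [Field K] (i : k →+* K) {F : MvPolynomial (Fin n) k}
    (h : IsUnit (MvPolynomial.map i F)) : IsUnit F := by
  rw [MvPolynomial.isUnit_iff] at h ⊢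
  simp only [MvPolynomial.coeff_map] at h
  refine ⟨isUnit_iff_ne_zero.mpr fun h0 => ?_, fun j hj => ?_⟩
  · rw [h0, map_zero] at h
    exact not_isUnit_zero h.1
  · have := h.2 j hj
    rw [isNilpotent_iff_eq_zero, map_eq_zero] at this
    rw [this]
    exact IsNilpotent.zero

theorem irreducible_of_map {K : Type u} [Field K] (i : k →+* K) {F : MvPolynomial (Fin n) k}
    (h : Irreducible (MvPolynomial.map i F)) : Irreducible F := by
  refine ⟨fun hu => h.1 (hu.map _), fun a b hab => ?_⟩
  rcases h.2 (a := MvPolynomial.map i a) (b := MvPolynomial.map i b)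
    (by rw [hab, map_mul]) with h1 | h1
  · exact .inl (isUnit_of_map i h1)
  · exact .inr (isUnit_of_map i h1)

theorem irreducible_map_of_irreducible_map (Ω : Type u) [Field Ω] [Algebra k Ω]
    [IsAlgClosed Ω] {F : MvPolynomial (Fin n) k}
    (h : Irreducible (MvPolynomial.map (algebraMap k Ω) F))
    (K : Type u) [Field K] [Algebra k K] :
    Irreducible (MvPolynomial.map (algebraMap k K) F) := by
  obtain ⟨m, hm⟩ := Ideal.exists_maximal (K ⊗[k] Ω)
  let L := (K ⊗[k] Ω) ⧸ m
  let : Field L := Ideal.Quotient.field m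
  let iK : K →+* L := (Ideal.Quotient.mk m).comp Algebra.TensorProduct.includeLeftRingHom
  let iΩ : Ω →+* L := (Ideal.Quotient.mk m).comp
    (Algebra.TensorProduct.includeRight : Ω →ₐ[k] K ⊗[k] Ω).toRingHom
  have hcomp : iK.comp (algebraMap k K) = iΩ.comp (algebraMap k Ω) := by
    ext x
    change Ideal.Quotient.mk m (algebraMap k K x ⊗ₜ[k] 1) = Ideal.Quotient.mk m (1 ⊗ₜ[k] algebraMap k Ω x)
    rw [Algebra.algebraMap_eq_smul_one, Algebra.algebraMap_eq_smul_one, TensorProduct.smul_tmul]
  let : Algebra Ω L := iΩ.toAlgebra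
  have h1 : Irreducible (MvPolynomial.map iΩ (MvPolynomial.map (algebraMap k Ω) F)) :=
    irreducible_map_of_isAlgClosed h L
  rw [MvPolynomial.map_map, ← hcomp, ← MvPolynomial.map_map] at h1
  exact irreducible_of_map iK h1

end K118.GeomIrredPoly
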