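import Groth.Agent.Ega4fib.H172.CodimLocus
import Groth.Agent.Cons9.K118.FibComp

/-!
# Dimensions of the irreducible components of the fibres of a locally constructible set

* `rtdLocus f Z d`: the points with a generization in `Z` in their fibre whose residue field has
  transcendence degree at least `d` over that of its image.
* `isLocallyConstructible_rtdLocus`
* `isLocallyConstructible_setOf_exists_component`: the set of `s` such that `Z_s` has an irreducible
  component of dimension `d`.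
* `isLocallyConstructible_componentDims`
-/

set_option autoImplicit false

universe u

namespace K118.RtdLocus

open AlgebraicGeometry CategoryTheory CategoryTheory.Limits Topology
open Groth.Agent.Ega4fib.H172.FibDimBC Groth.Agent.Ega4fib.H172.FibDimConstr
open Groth.Agent.Ega4fib.H172.RelClosure Groth.Agent.CycB.RelDim
open Groth.Agent.VarietyA.LocDim Groth.Agent.Ega4fib.H172.CodimLocus
open K118.FibComp

variable {X Y S T : Scheme.{u}}

/-- The points with a generization in their fibre lying in `Z` and of relative transcendence degree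
at least `d`. -/
def rtdLocus (f : X ⟶ S) (Z : Set X) (d : ℕ) : Set X :=
  {x | ∃ z ∈ Z, f z = f x ∧ z ⤳ x ∧ ∃ n : ℕ, rtd f z = n ∧ d ≤ n}

theorem rtdLocus_iUnion {ι : Sort*} (f : X ⟶ S) (Z : ι → Set X) (k : ℕ) :
    rtdLocus f (⋃ i, Z i) k = ⋃ i, rtdLocus f (Z i) k := by
  ext x
  simp only [rtdLocus, Set.mem_iUnion, Set.mem_ofPred_eq]
  constructor
  · rintro ⟨z, ⟨i, hz⟩, h⟩
    exact ⟨i, z, hz, h⟩
  · rintro ⟨i, z, hz, h⟩
    exact ⟨z, ⟨i, hz⟩, h⟩

theorem rtdLocus_range_eq (f : X ⟶ S) [LocallyOfFiniteType f] (ι : T ⟶ X)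
    [LocallyOfFiniteType ι] (h0 : ∀ t, rtd ι t = 0) (k : ℕ) :
    rtdLocus f (Set.range ι) k =
      relClosure f (ι '' {t | (k : WithBot ℕ∞) ≤ FlatMor.fibreDimAt (ι ≫ f) t}) := by
  have hr : ∀ t, rtd (ι ≫ f) t = rtd f (ι t) := fun t => by rw [rtd_comp, h0, add_zero]
  ext x
  constructor
  · rintro ⟨_, ⟨t, rfl⟩, hf, hx, n, hn, hd⟩
    refine ⟨ι t, ⟨t, ?_, rfl⟩, hf, hx⟩
    obtain ⟨m, hm, h⟩ := le_fibreDimAt (ι ≫ f) t t specializes_rfl rfl
    rw [hr, hn] at hm
    have hmn : n = m := by exact_mod_cast hm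
    subst hmn
    refine le_trans ?_ h
    exact_mod_cast hd
  · rintro ⟨_, ⟨t, hd, rfl⟩, hf, hx⟩
    obtain ⟨t', ht', hft', -, n, hn, hn'⟩ := exists_fibGeneric_rtd_eq (ι ≫ f) t
    have hft : f (ι t') = f (ι t) := hft'
    have hsp : ι t' ⤳ ι t := ht'.map ι.continuous
    refine ⟨ι t', ⟨t', rfl⟩, hft.trans hf, hsp.trans hx, n, ?_, ?_⟩
    · rw [← hr, hn]
    · have hd : (k : WithBot ℕ∞) ≤ FlatMor.fibreDimAt (ι ≫ f) t := hd
      rw [hn'] at hd
      exact_mod_cast hd

theorem isLocallyConstructible_le_fibreDimAt (f : X ⟶ S) [LocallyOfFinitePresentation f] (k : ℕ) :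
    IsLocallyConstructible {x : X | (k : WithBot ℕ∞) ≤ FlatMor.fibreDimAt f x} := by
  cases k with
  | zero =>
    convert (IsLocallyConstructible.univ : IsLocallyConstructible (Set.univ : Set X)) using 1
    rw [Set.eq_univ_iff_forall]
    intro x
    obtain ⟨d, hd⟩ := Groth.Agent.Flat2D.FibDimNat.exists_nat_fibreDimAt f x
    change (((0 : ℕ) : WithBot ℕ∞) ≤ FlatMor.fibreDimAt f x)
    rw [hd]
    exact_mod_cast Nat.zero_le d
  | succ k =>
    convert isLocallyConstructible_compl (isLocallyConstructible_fibreDimAt_le f k) using 1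
    ext x
    obtain ⟨d, hd⟩ := Groth.Agent.Flat2D.FibDimNat.exists_nat_fibreDimAt f x
    change (((k + 1 : ℕ) : WithBot ℕ∞) ≤ FlatMor.fibreDimAt f x) ↔
      ¬ (FlatMor.fibreDimAt f x ≤ (k : WithBot ℕ∞))
    rw [hd]
    norm_cast
    omega

theorem isLocallyConstructible_rtdLocus_Spec {A B : CommRingCat.{u}} (φ : A ⟶ B)
    (hφ : φ.hom.FinitePresentation) {Z : Set (PrimeSpectrum B)} (hZ : IsConstructible Z) (k : ℕ) :
    IsLocallyConstructible (rtdLocus (Spec.map φ) Z k) := by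
  have hf : LocallyOfFinitePresentation (Spec.map φ) := by
    rw [HasRingHomProperty.Spec_iff (P := @LocallyOfFinitePresentation)]
    exact hφ
  obtain ⟨D, rfl⟩ := PrimeSpectrum.exists_constructibleSetData_iff.mpr hZ
  have h1 : (D.toSet : Set (PrimeSpectrum B)) = ⋃ c : D, c.1.toSet := by
    ext x
    simp [PrimeSpectrum.ConstructibleSetData.toSet]
  have h2 : rtdLocus (Spec.map φ) D.toSet k =
      ⋃ c : D, rtdLocus (Spec.map φ) (c.1.toSet : Set (PrimeSpectrum B)) k :=
    (congrArg (fun Z : Set (PrimeSpectrum B) => rtdLocus (Spec.map φ) Z k) h1).trans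
      (rtdLocus_iUnion (Spec.map φ) _ k)
  rw [h2]
  refine .iUnion fun c => ?_
  obtain ⟨C, ψ, hψ, hr, h0⟩ := exists_piece c.1
  have hι : LocallyOfFinitePresentation (Spec.map ψ) := by
    rw [HasRingHomProperty.Spec_iff (P := @LocallyOfFinitePresentation)]
    exact hψ
  rw [← hr, rtdLocus_range_eq (Spec.map φ) (Spec.map ψ) h0 k]
  refine isLocallyConstructible_relClosure _ ?_
  exact (Spec.map ψ).isLocallyConstructible_image (isLocallyConstructible_le_fibreDimAt _ _)

theorem isLocallyConstructible_rtdLocus (f : X ⟶ S) [LocallyOfFinitePresentation f] {Z : Set X}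
    (hZ : IsLocallyConstructible Z) (k : ℕ) : IsLocallyConstructible (rtdLocus f Z k) := by
  refine isLocallyConstructible_of_charts f fun A B φ j i _ _ hφ h => ?_
  have hZ' : IsConstructible (X := PrimeSpectrum B) (j ⁻¹' Z) :=
    IsLocallyConstructible.isConstructible (X := PrimeSpectrum B)
      (hZ.preimage_of_isOpenEmbedding j.isOpenEmbedding)
  have h1 := isLocallyConstructible_rtdLocus_Spec φ hφ hZ' k
  have hr : ∀ u, rtd (Spec.map φ) u = rtd f (j u) := by
    intro u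
    have h2 : rtd (j ≫ f) u = rtd f (j u) := by
      rw [rtd_comp, rtd_eq_zero_of_isPreimmersion j u, add_zero]
    have h3 : rtd (Spec.map φ ≫ i) u = rtd (Spec.map φ) u := by
      rw [rtd_comp, rtd_eq_zero_of_isPreimmersion i _, zero_add]
    rw [← h3, ← h2, h]
  have h2 : j ⁻¹' (rtdLocus f Z k) = rtdLocus (Spec.map φ) (j ⁻¹' Z) k := by
    have hji : ∀ u : ↥(Spec B), f (j u) = i (Spec.map φ u) := by
      intro u
      rw [← Scheme.Hom.comp_apply, h, Scheme.Hom.comp_apply]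
    ext u
    constructor
    · rintro ⟨w, hw, hfw, hwu, n, hn, hd⟩
      obtain ⟨v, rfl⟩ : w ∈ Set.range j := hwu.mem_open j.isOpenEmbedding.isOpen_range ⟨u, rfl⟩
      refine ⟨v, hw, ?_, j.isOpenEmbedding.isInducing.specializes_iff.mp hwu, n, ?_, hd⟩
      · rw [hji, hji] at hfw
        exact i.isOpenEmbedding.injective hfw
      · rw [hr, hn]
    · rintro ⟨v, hv, hfv, hvu, n, hn, hd⟩
      refine ⟨j v, hv, by rw [hji, hji, hfv], hvu.map j.continuous, n, ?_, hd⟩
      rw [← hr, hn]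
  rw [h2]
  exact IsLocallyConstructible.isConstructible (X := PrimeSpectrum B) h1

/-- Existence of a component of given dimension through the loci. -/
theorem exists_component_iff_mem (f : X ⟶ S) [LocallyOfFiniteType f] (s : S) (Z : Set X)
    (hc : IsLocallyClosed (Subtype.val ⁻¹' Z : Set ↥(f ⁻¹' {s}))) (d : ℕ) :
    (∃ T ∈ irreducibleComponents ↥(Z ∩ f ⁻¹' {s}), topologicalKrullDim ↥T = d) ↔
      s ∈ f '' (Z ∩ (rtdLocus f Z d ∩ (rtdLocus f Z (d + 1))ᶜ)) := by
  have hW : Z ∩ f ⁻¹' {s} ⊆ f ⁻¹' {s} := Set.inter_subset_right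
  have hc' : IsLocallyClosed (Subtype.val ⁻¹' (Z ∩ f ⁻¹' {s}) : Set ↥(f ⁻¹' {s})) := by
    convert hc using 1
    ext x
    exact ⟨fun h => h.1, fun h => ⟨h, x.2⟩⟩
  rw [exists_component_iff f s _ hW hc']
  constructor
  · rintro ⟨x, ⟨hxZ, hxs⟩, hmax, n, hn, hd⟩
    have hdn : d = n := by exact_mod_cast hd
    subst hdn
    refine ⟨x, ⟨hxZ, ⟨x, hxZ, rfl, specializes_rfl, d, hn, le_rfl⟩, ?_⟩, hxs⟩
    rintro ⟨z, hz, hfz, hzx, m, hm, hdm⟩
    have : z = x := hmax z ⟨hz, hfz.trans hxs⟩ hzx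
    subst this
    rw [hn] at hm
    have : d = m := by exact_mod_cast hm
    omega
  · rintro ⟨x, ⟨hxZ, ⟨z, hz, hfz, hzx, n, hn, hdn⟩, hx⟩, rfl⟩
    have hqs := quasiSober_coe f (f x) _ hW hc'
    let z' : ↥(Z ∩ f ⁻¹' {f x}) := ⟨z, hz, hfz⟩
    obtain ⟨t, ht, hT⟩ := (mem_irreducibleComponents_iff _).mp
      (irreducibleComponent_mem_irreducibleComponents z')
    have htz : t ⤳ z' := by
      rw [specializes_iff_mem_closure, ← hT]
      exact mem_irreducibleComponent
    have htz' : t.1 ⤳ z := htz.map continuous_subtype_val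
    have hft : f t.1 = f x := t.2.2
    obtain ⟨m, hm⟩ := Cardinal.lt_aleph0.mp (rtd_lt_aleph0 f t.1)
    have h1 : n ≤ m := by
      have := rtd_le_of_specializes f htz' (hft.trans hfz.symm)
      rw [hm, hn] at this
      exact_mod_cast this
    have h2 : m < d + 1 := by
      by_contra hcon
      exact hx ⟨t.1, t.2.1, hft, htz'.trans hzx, m, hm, not_lt.mp hcon⟩
    have h3 : d = m := by omega
    refine ⟨t.1, t.2, fun w hw hwt => ?_, m, hm, by rw [h3]⟩
    exact congrArg Subtype.val (ht ⟨w, hw⟩ (IsInducing.subtypeVal.specializes_iff.mp hwt))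

/-- The dimension of a component is a natural number, bounded by the local fibre dimension. -/
theorem exists_dim_le (f : X ⟶ S) [LocallyOfFiniteType f] (s : S) (Z : Set X)
    (hc : IsLocallyClosed (Subtype.val ⁻¹' Z : Set ↥(f ⁻¹' {s})))
    (T : Set ↥(Z ∩ f ⁻¹' {s})) (hT : T ∈ irreducibleComponents ↥(Z ∩ f ⁻¹' {s})) (N : ℕ)
    (hN : ∀ x, f x = s → FlatMor.fibreDimAt f x ≤ N) :
    ∃ n : ℕ, n ≤ N ∧ topologicalKrullDim ↥T = n := by
  have hW : Z ∩ f ⁻¹' {s} ⊆ f ⁻¹' {s} := Set.inter_subset_right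
  have hc' : IsLocallyClosed (Subtype.val ⁻¹' (Z ∩ f ⁻¹' {s}) : Set ↥(f ⁻¹' {s})) := by
    convert hc using 1
    ext x
    exact ⟨fun h => h.1, fun h => ⟨h, x.2⟩⟩
  obtain ⟨x, ⟨hxZ, hxs⟩, hmax, n, hn, hd⟩ := (exists_component_iff f s _ hW hc' _).mp ⟨T, hT, rfl⟩
  refine ⟨n, ?_, hd⟩
  obtain ⟨m, hm, h⟩ := le_fibreDimAt f x x specializes_rfl rfl
  rw [hn] at hm
  have : n = m := by exact_mod_cast hm
  subst this
  exact_mod_cast h.trans (hN x hxs)

theorem isLocallyConstructible_componentDims (f : X ⟶ S)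
    [LocallyOfFinitePresentation f] [QuasiCompact f] [QuasiSeparated f]
    (Z : Set X) (hZ : IsLocallyConstructible Z)
    (hZs : ∀ s : S, IsLocallyClosed (Subtype.val ⁻¹' Z : Set ↥(⇑f ⁻¹' {s})))
    (Φ : Set (WithBot ℕ∞)) :
    IsLocallyConstructible {s : S |
      (fun T : Set ↥(Z ∩ ⇑f ⁻¹' {s}) => topologicalKrullDim ↥T) ''
        irreducibleComponents ↥(Z ∩ ⇑f ⁻¹' {s}) = Φ} := by
  classical
  let B : ℕ → Set S := fun d => f '' (Z ∩ (rtdLocus f Z d ∩ (rtdLocus f Z (d + 1))ᶜ))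
  have hB : ∀ d, IsLocallyConstructible (B d) := fun d =>
    f.isLocallyConstructible_image (hZ.inter ((isLocallyConstructible_rtdLocus f hZ d).inter
      (isLocallyConstructible_compl (isLocallyConstructible_rtdLocus f hZ (d + 1)))))
  have hmem : ∀ (s : S) (d : ℕ), (d : WithBot ℕ∞) ∈
      (fun T : Set ↥(Z ∩ ⇑f ⁻¹' {s}) => topologicalKrullDim ↥T) ''
        irreducibleComponents ↥(Z ∩ ⇑f ⁻¹' {s}) ↔ s ∈ B d := fun s d =>
    exists_component_iff_mem f s Z (hZs s) d
  refine .of_isOpenCover (U := fun U : S.affineOpens => U.1) (iSup_affineOpens_eq_top S) fun U => ?_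
  have hcU : CompactSpace (f ⁻¹ᵁ U.1).toScheme :=
    isCompact_iff_compactSpace.mp (f.isCompact_preimage U.2.isCompact)
  obtain ⟨N, hN⟩ := exists_bound_fibreDimAt ((f ⁻¹ᵁ U.1).ι ≫ f)
  have hN' : ∀ x : X, f x ∈ U.1 → FlatMor.fibreDimAt f x ≤ N := by
    intro x hx
    have h1 := hN ⟨x, hx⟩
    rwa [fibreDimAt_isOpenImmersion_comp (f ⁻¹ᵁ U.1).ι f ⟨x, hx⟩] at h1
  by_cases hΦ : ∀ φ ∈ Φ, ∃ n : ℕ, n ≤ N ∧ φ = n
  · let E' : Set S := ⋂ d : Fin (N + 1), if (d.1 : WithBot ℕ∞) ∈ Φ then B d.1 else (B d.1)ᶜ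
    have hE' : IsLocallyConstructible E' := by
      refine .iInter fun d => ?_
      split_ifs
      · exact hB _
      · exact isLocallyConstructible_compl (hB _)
    refine cast (congrArg IsLocallyConstructible (Set.ext fun s => ?_))
      (hE'.preimage_of_isOpenEmbedding U.1.2.isOpenEmbedding_subtypeVal)
    symm
    have hs : s.1 ∈ U.1 := s.2
    change (_ = Φ) ↔ s.1 ∈ E'
    rw [Set.mem_iInter]
    constructor
    · intro h d
      split_ifs with hd
      · exact (hmem s.1 d.1).mp (h ▸ hd)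
      · exact fun hcon => hd (h ▸ (hmem s.1 d.1).mpr hcon)
    · intro h
      ext φ
      constructor
      · rintro ⟨T, hT, rfl⟩
        obtain ⟨n, hn, hd⟩ := exists_dim_le f s.1 Z (hZs s.1) T hT N
          (fun x hx => hN' x (hx ▸ hs))
        have h1 : s.1 ∈ B n := (hmem s.1 n).mp ⟨T, hT, hd⟩
        have h2 := h ⟨n, by omega⟩
        change topologicalKrullDim ↥T ∈ Φ
        rw [hd]
        by_contra hcon
        rw [if_neg hcon] at h2
        exact h2 h1
      · intro hφ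
        obtain ⟨n, hn, rfl⟩ := hΦ φ hφ
        have h2 := h ⟨n, by omega⟩
        rw [if_pos hφ] at h2
        exact (hmem s.1 n).mpr h2
  · refine cast (congrArg IsLocallyConstructible (Set.ext fun s => ?_))
      (IsLocallyConstructible.empty)
    symm
    have hs : s.1 ∈ U.1 := s.2
    refine ⟨fun h => hΦ fun φ hφ => ?_, fun h => h.elim⟩
    have h : _ = Φ := h
    rw [← h] at hφ
    obtain ⟨T, hT, rfl⟩ := hφ
    exact exists_dim_le f s.1 Z (hZs s.1) T hT N (fun x hx => hN' x (hx ▸ hs))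

end K118.RtdLocus
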