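import Groth.Agent.RadPt.K284.UnibMain
import Groth.Agent.Ega43.LocusElem
import Groth.Agent.CAlg.K71.NormRed
import Groth.Agent.HTop.K348.Res
import Groth.Agent.Flat2B.WeakAss
import Groth.Agent.UnramA.NormalUnibranch
import Groth.Agent.EGA43.K125.PolyUnibranchSch

/-!
# The geometrically unibranch locus of a Noetherian scheme with finite normalization

* `isBirational_Spec`: a criterion for `Spec B ⟶ Spec A` to be birational;
* `isBirational_normRed`: `Spec (normRed A) ⟶ Spec A` is birational;
* `isConstructible_geomUnibranch`: the locus in `Spec A`.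
-/

set_option autoImplicit false
universe u
open CategoryTheory AlgebraicGeometry CategoryTheory.Limits Topology TopologicalSpace

namespace K118.UnibranchLocus

open Groth.Agent.Fdesc.GenTop Groth.Agent.Ega4C.GeomUnibranch

theorem residueFieldMap_bijective {A B : CommRingCat.{u}} (φ : A ⟶ B) (P : Spec B)
    (h : ∀ b : B, ∃ t a : A, t ∉ (Spec.map φ P).asIdeal ∧ φ t * b = φ a) :
    Function.Bijective ((Spec.map φ).residueFieldMap P).hom := by
  have hP1 : P.asIdeal.IsPrime := P.2
  have hP2 : (Spec.map φ P).asIdeal.IsPrime := (Spec.map φ P).2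
  have h0 := K348.Res.residueFieldMap_SpecMap φ P
  refine ⟨RingHom.injective _, ?_⟩
  let ψ : (Spec.map φ P).asIdeal.ResidueField →+* P.asIdeal.ResidueField :=
    Ideal.ResidueField.map (Spec.map φ P).asIdeal P.asIdeal φ.hom rfl
  have hψ : Function.Surjective ψ := by
    have key : ∀ b : B, algebraMap B P.asIdeal.ResidueField b ∈ ψ.fieldRange := by
      intro b
      obtain ⟨t, a, ht, hta⟩ := h b
      have h1 : ∀ c : A, ψ (algebraMap A _ c) = algebraMap B _ (φ c) := fun c =>
        Ideal.ResidueField.map_algebraMap _ _ _ _ _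
      have h2 : algebraMap B P.asIdeal.ResidueField (φ t) ≠ 0 := by
        rw [Ne, Ideal.algebraMap_residueField_eq_zero]
        exact ht
      refine ⟨algebraMap A _ a / algebraMap A _ t, ?_⟩
      rw [map_div₀, h1, h1, div_eq_iff h2, ← hta, map_mul, mul_comm]
    intro x
    obtain ⟨r, s, hs, rfl⟩ := IsFractionRing.div_surjective (A := B ⧸ P.asIdeal) x
    obtain ⟨r, rfl⟩ := Ideal.Quotient.mk_surjective r
    obtain ⟨s, rfl⟩ := Ideal.Quotient.mk_surjective s
    exact div_mem (key r) (key s)
  intro x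
  obtain ⟨y, hy⟩ := hψ ((Scheme.Spec.residueFieldIso B P).hom x)
  refine ⟨(Scheme.Spec.residueFieldIso A (Spec.map φ P)).inv y, ?_⟩
  have hinj : Function.Injective (Scheme.Spec.residueFieldIso B P).hom :=
    ((ConcreteCategory.isIso_iff_bijective (Scheme.Spec.residueFieldIso B P).hom).mp
      inferInstance).1
  apply hinj
  have h1 := congr($h0 ((Scheme.Spec.residueFieldIso A (Spec.map φ P)).inv y))
  rw [ConcreteCategory.comp_apply, ConcreteCategory.comp_apply, Iso.inv_hom_id_apply] at h1
  exact h1.trans hy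

theorem mem_genericPoints_Spec_iff {A : CommRingCat.{u}} (q : Spec A) :
    q ∈ genericPoints (Spec A) ↔ q.asIdeal ∈ minimalPrimes A := by
  rw [mem_genericPoints_iff, minimalPrimes_eq_minimals]
  constructor
  · intro h
    refine ⟨q.2, fun J hJ hJq => ?_⟩
    let y : Spec A := (⟨J, hJ⟩ : PrimeSpectrum A)
    have h1 : y = q := h y ((K284.UnibSch.specializes_iff_le A).mpr hJq)
    exact (congrArg PrimeSpectrum.asIdeal h1).ge
  · intro h y hy
    have hy' : y.asIdeal ≤ q.asIdeal := (K284.UnibSch.specializes_iff_le A).mp hy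
    exact PrimeSpectrum.ext (le_antisymm hy' (h.2 y.2 hy'))

/-- A criterion for birationality. -/
theorem isBirational_Spec {A B : CommRingCat.{u}} (φ : A ⟶ B)
    (h1 : ∀ P ∈ genericPoints (Spec B), Spec.map φ P ∈ genericPoints (Spec A))
    (h2 : ∀ q ∈ genericPoints (Spec A), ∃ P, Spec.map φ P = q)
    (h3 : ∀ q ∈ genericPoints (Spec A), ∀ b : B, ∃ t a : A, t ∉ q.asIdeal ∧ φ t * b = φ a) :
    RadPt.IsBirational (Spec.map φ) := by
  have huniq : ∀ q ∈ genericPoints (Spec A), ∀ P P' : Spec B, Spec.map φ P = q →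
      Spec.map φ P' = q → P = P' := by
    have key : ∀ q ∈ genericPoints (Spec A), ∀ P P' : Spec B, Spec.map φ P = q →
        Spec.map φ P' = q → P.asIdeal ≤ P'.asIdeal := by
      intro q hq P P' hP hP' b hb
      obtain ⟨t, a, ht, hta⟩ := h3 q hq b
      have h4 : φ a ∈ P.asIdeal := by rw [← hta]; exact P.asIdeal.mul_mem_left _ hb
      have h5 : a ∈ q.asIdeal := by rw [← hP]; exact h4
      have h6 : φ a ∈ P'.asIdeal := by rw [← hP'] at h5; exact h5
      rw [← hta] at h6
      rcases P'.2.mem_or_mem h6 with h | h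
      · exact absurd (by rw [← hP']; exact h) ht
      · exact h
    intro q hq P P' hP hP'
    exact PrimeSpectrum.ext (le_antisymm (key q hq P P' hP hP') (key q hq P' P hP' hP))
  refine ⟨⟨h1, fun P hP P' hP' h => huniq _ (h1 P hP) P P' rfl h.symm, fun q hq => ?_⟩,
    fun q hq => ⟨huniq q hq, ?_⟩⟩
  · obtain ⟨P, hP⟩ := h2 q hq
    obtain ⟨g, hg, hgP⟩ := exists_genericPoints_specializes P
    refine ⟨g, hg, ?_⟩
    exact (mem_genericPoints_iff.mp hq) _ (hP ▸ hgP.map (Spec.map φ).continuous)
  · rintro P rfl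
    exact residueFieldMap_bijective φ P (h3 _ hq)

open Groth.Agent.Flat2B.WeakAss in
/-- The normalization is birational. -/
theorem isBirational_normRed (A : Type u) [CommRing A] :
    RadPt.IsBirational (Spec.map (CommRingCat.ofHom (toNormRed A))) := by
  have hnil : ∀ a : A, toNormRed A a = 0 → IsNilpotent a := by
    intro a ha
    rw [← mem_nilradical, ← ker_toNormRed]
    exact ha
  refine isBirational_Spec _ (fun P hP => ?_) (fun q hq => ?_) (fun q hq b => ?_)
  · rw [mem_genericPoints_Spec_iff] at hP ⊢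
    have hPp := P.2
    have hPp' : (Spec.map (CommRingCat.ofHom (toNormRed A)) P).asIdeal.IsPrime :=
      (Spec.map (CommRingCat.ofHom (toNormRed A)) P).2
    have h1 := ((mem_minimalPrimes_iff _ _).mp hP).2
    refine (mem_minimalPrimes_iff _ _).mpr ⟨bot_le, fun a ha => ?_⟩
    obtain ⟨n, b, hb, hb0⟩ := h1 (toNormRed A a) ha
    obtain ⟨s, r, hs, hsr⟩ := exists_toNormRed_mul_eq A b
    have hsP : toNormRed A s ∉ P.asIdeal := fun h =>
      notMem_nonZeroDivisors_of_mem_mem_minimalPrimes h hP hs
    have hrP : toNormRed A r ∉ P.asIdeal := by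
      rw [← hsr]
      exact fun h => (hPp.mem_or_mem h).elim hsP hb
    obtain ⟨m, hm⟩ := hnil (r * a ^ n) (by
      rw [map_mul, map_pow, ← hsr, mul_assoc, (Ideal.mem_bot.mp hb0), mul_zero])
    refine ⟨n * m, r ^ m, fun h => hrP ?_, ?_⟩
    · exact hPp.mem_of_pow_mem m (by rw [← map_pow]; exact h)
    · rw [pow_mul, ← mul_pow, hm]
      exact Ideal.zero_mem _
  · have hqp := q.2
    have hint := toNormRed_isIntegral A
    let := (toNormRed A).toAlgebra
    have : Algebra.IsIntegral A (CAlg2.normRed A) := ⟨hint⟩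
    obtain ⟨Q, -, hQ, hQ'⟩ := Ideal.exists_ideal_over_prime_of_isIntegral q.asIdeal
      (⊥ : Ideal (CAlg2.normRed A)) (by
        intro a ha
        exact nilradical_le_prime q.asIdeal (mem_nilradical.mpr (hnil a (Ideal.mem_bot.mp ha))))
    exact ⟨⟨Q, hQ⟩, PrimeSpectrum.ext hQ'⟩
  · rw [mem_genericPoints_Spec_iff] at hq
    have hqp := q.2
    obtain ⟨s, r, hs, hsr⟩ := exists_toNormRed_mul_eq A b
    refine ⟨s, r, fun h => ?_, hsr⟩
    obtain ⟨n, a, ha, ha0⟩ := ((mem_minimalPrimes_iff _ _).mp hq).2 s h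
    have h1 : toNormRed A a * toNormRed A s ^ n = 0 := by
      rw [← map_pow, ← map_mul, Ideal.mem_bot.mp ha0, map_zero]
    have h2 : toNormRed A a = 0 := (mem_nonZeroDivisors_iff_right.mp (pow_mem hs n)) _ h1
    exact ha (nilradical_le_prime q.asIdeal (mem_nilradical.mpr (hnil a h2)))

/-- The locus in the affine case. -/
theorem isConstructible_geomUnibranch (A : Type u) [CommRing A] [IsNoetherianRing A]
    (hfin : Module.Finite (CAlg2.red A) (CAlg2.normRed A)) :
    IsConstructible {p : PrimeSpectrum A | CAlg2.IsGeomUnibranch (Localization.AtPrime p.asIdeal)} := by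
  let φ : CommRingCat.of A ⟶ CommRingCat.of (CAlg2.normRed A) := CommRingCat.ofHom (toNormRed A)
  have hfin' : (toNormRed A).Finite :=
    RingHom.Finite.comp (RingHom.finite_algebraMap.mpr hfin)
      (RingHom.Finite.of_surjective _ Ideal.Quotient.mk_surjective)
  have h0 : IsFinite (Spec.map φ) := (IsFinite.SpecMap_iff _).mpr hfin'
  have h1 : ∀ p : PrimeSpectrum A, CAlg2.IsGeomUnibranch (Localization.AtPrime p.asIdeal) ↔
      RadPt.IsRadicialAt (Spec.map φ) p := by
    intro p
    have h2 := K284.UnibMain.main (Spec.map φ) (isBirational_normRed A) p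
    have h3 := K125.PolyUnibranchSch.isGeomUnibranch_stalk_iff (X := Spec (.of A)) A (𝟙 _) p
    rw [← h3]
    refine h2.trans ⟨fun h => h.1, fun h => ⟨h, fun x _ => ?_⟩⟩
    have hx : x.asIdeal.IsPrime := x.2
    have h4 := K71.NormRed.isNormalRing_normRed (A := A)
      (minimalPrimes.finite_of_isNoetherianRing A) x.asIdeal
    have h5 := h4.1
    have h6 := h4.2
    have h7 := K125.PolyUnibranchSch.isGeomUnibranch_stalk_iff
      (X := Spec (.of (CAlg2.normRed A))) _ (𝟙 _) x
    exact h7.mpr (Groth.Agent.UnramA.NormalUnibranch.isGeomUnibranch_of_isIntegrallyClosed _)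
  have h2 : LocallyOfFinitePresentation (Spec.map φ) :=
    LocallyOfFinitePresentation.iff_locallyOfFiniteType.2 inferInstance
  have h3 := Groth.Agent.Ega43.LocusElem.isLocallyConstructible_locus_universallyInjective
    (Spec.map φ) (𝟙 (Spec (.of A)))
  have hR : MorphismProperty.RespectsIso (C := Scheme.{u}) @UniversallyInjective :=
    MorphismProperty.respectsIso_of_isStableUnderComposition
      (fun _ _ f (_ : IsIso f) => inferInstanceAs (UniversallyInjective f))
  have h4 : {p : PrimeSpectrum A | CAlg2.IsGeomUnibranch (Localization.AtPrime p.asIdeal)} =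
      Groth.Agent.Ega43.Locus.locus @UniversallyInjective (Spec.map φ) (𝟙 (Spec (.of A))) := by
    ext p
    refine Iff.trans (h1 p) (Iff.trans (K284.Radicial.isRadicialAt_iff_fiber (Spec.map φ) p) ?_)
    exact (Groth.Agent.Ega43.Locus.mem_locus_iff_of_isPullback
      (P := @UniversallyInjective) (f := Spec.map φ) (g := 𝟙 (Spec (.of A)))
      (a' := 𝟙 _) (qY := (Spec (.of A)).fromSpecResidueField p)
      (IsPullback.of_horiz_isIso ⟨by simp⟩).flip
      (IsPullback.of_hasPullback (Spec.map φ) _)).symm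
  rw [h4]
  exact h3.isConstructible

/-- The geometrically unibranch locus is locally constructible. -/
theorem isLocallyConstructible_geomUnibranch (X : Scheme.{u}) [IsLocallyNoetherian X]
    (hfin : ∀ U : X.affineOpens, Module.Finite (CAlg2.red Γ(X, U.1)) (CAlg2.normRed Γ(X, U.1))) :
    IsLocallyConstructible {x : X | CAlg2.IsGeomUnibranch (X.presheaf.stalk x)} := by
  refine .of_isOpenCover (U := fun U : X.affineOpens ↦ U.1) (iSup_affineOpens_eq_top X) fun U ↦ ?_
  have hU : IsAffineOpen U.1 := U.2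
  have : IsNoetherianRing Γ(X, U.1) := IsLocallyNoetherian.component_noetherian U
  have h1 := isConstructible_geomUnibranch Γ(X, U.1) (hfin U)
  have h3 : {p : PrimeSpectrum Γ(X, U.1) | CAlg2.IsGeomUnibranch (Localization.AtPrime p.asIdeal)} =
      hU.fromSpec ⁻¹' {x : X | CAlg2.IsGeomUnibranch (X.presheaf.stalk x)} := by
    ext p
    exact (K125.PolyUnibranchSch.isGeomUnibranch_stalk_iff _ hU.fromSpec p).symm
  have h1' : IsConstructible (X := Spec Γ(X, U.1)) (hU.fromSpec ⁻¹' {x : X | CAlg2.IsGeomUnibranch (X.presheaf.stalk x)}) := by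
    rw [← h3]
    exact h1
  have h2 := (h1'.isLocallyConstructible.preimage_of_isOpenEmbedding
    hU.isoSpec.hom.isOpenEmbedding)
  convert! h2 using 1
  rw [← Set.preimage_comp, ← TopCat.coe_comp, ← Scheme.Hom.comp_base, hU.isoSpec_hom_fromSpec]
  rfl

end K118.UnibranchLocus
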